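import Mathlib
import Cfsg.Agent.PLocal.QuadraticDickson
set_option linter.all false

-- part: H874/SlotBasic
section
/-!
# Slots: `V = W ⊗ W'` with `W` symplectic

`Slot F W W' V`: a decomposition `V = W ⊗ W'` given by `i w : y ↦ w ⊗ y` and the contractions
`c w : x ⊗ y ↦ ω(w, x) y`, for a symplectic form `ω` on `W`. `Δ w = i w ∘ c w`, `tv w l = 1 + l Δ w`.
-/

set_option autoImplicit false
set_option linter.unusedSimpArgs false
set_option linter.unusedVariables false

namespace Cfsg.Agent.H874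

/-- `V = W ⊗ W'` with `W` symplectic. -/
structure Slot (F W W' V : Type*) [Field F] [AddCommGroup W] [Module F W] [AddCommGroup W'] [Module F W']
    [AddCommGroup V] [Module F V] where
  ω : W →ₗ[F] W →ₗ[F] F
  alt : ∀ w, ω w w = 0
  nondeg : ∀ w, (∀ x, ω w x = 0) → w = 0
  i : W →ₗ[F] W' →ₗ[F] V
  c : W →ₗ[F] V →ₗ[F] W'
  ci : ∀ w x y, c w (i x y) = ω w x • y
  c_inj : ∀ v, (∀ w, c w v = 0) → v = 0
  i_span : ∀ v : V, v ∈ Submodule.span F {z : V | ∃ w y, z = i w y}

namespace Slot

variable {F W W' V : Type*} [Field F] [AddCommGroup W] [Module F W] [AddCommGroup W'] [Module F W']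
    [AddCommGroup V] [Module F V] (S : Slot F W W' V)

theorem skew (x y : W) : S.ω x y = - S.ω y x := by
  have h := S.alt (x + y)
  simp only [map_add, LinearMap.add_apply, S.alt, zero_add, add_zero] at h
  exact eq_neg_of_add_eq_zero_left (by rw [add_comm]; exact h)

theorem perp_comm {x y : W} (h : S.ω x y = 0) : S.ω y x = 0 := by rw [S.skew, h, neg_zero]

/-- `Δ w = i w ∘ c w`. -/
def Δ (w : W) : Module.End F V := S.i w ∘ₗ S.c w

theorem Δ_apply (w : W) (x : V) : S.Δ w x = S.i w (S.c w x) := rfl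

theorem exists_pair {w : W} (hw : w ≠ 0) : ∃ u, S.ω w u = 1 := by
  by_contra hcon
  push Not at hcon
  refine hw (S.nondeg w fun x => ?_)
  by_contra hx
  refine hcon ((S.ω w x)⁻¹ • x) ?_
  rw [map_smul, smul_eq_mul, inv_mul_cancel₀ hx]

theorem i_injective {w : W} (hw : w ≠ 0) {y y' : W'} (h : S.i w y = S.i w y') : y = y' := by
  obtain ⟨u, hu⟩ := S.exists_pair hw
  have h1 := congrArg (S.c u) h
  rw [S.ci, S.ci, S.skew, hu, neg_smul, neg_smul, one_smul, one_smul] at h1
  exact neg_injective h1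

/-- Linear maps on `V` are determined by their restrictions to the `w ⊗ W'`. -/
theorem ext_i {X : Type*} [AddCommGroup X] [Module F X] {g h : V →ₗ[F] X}
    (H : ∀ w y, g (S.i w y) = h (S.i w y)) : g = h := by
  ext v
  have hv := S.i_span v
  induction hv using Submodule.span_induction with
  | mem x hx =>
    obtain ⟨w, y, rfl⟩ := hx
    exact H w y
  | zero => rw [map_zero, map_zero]
  | add x y _ _ hx hy => rw [map_add, map_add, hx, hy]
  | smul a x _ hx => rw [map_smul, map_smul, hx]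

theorem ext_c {x y : V} (H : ∀ w, S.c w x = S.c w y) : x = y := by
  rw [← sub_eq_zero]
  refine S.c_inj _ fun w => ?_
  rw [map_sub, H, sub_self]

/-- If all contractions by `v ⟂ b` kill `x` then `x ∈ b ⊗ W'`. -/
theorem eq_i_of_perp {b b' : W} (hb : S.ω b b' = 1) {x : V} (h : ∀ v, S.ω b v = 0 → S.c v x = 0) :
    x = - S.i b (S.c b' x) := by
  refine S.ext_c fun v => ?_
  have h1 : S.c (v - S.ω b v • b') x = 0 := by
    refine h _ ?_
    rw [map_sub, map_smul, hb, smul_eq_mul, mul_one, sub_self]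
  rw [map_sub, LinearMap.sub_apply, map_smul, LinearMap.smul_apply, sub_eq_zero] at h1
  rw [h1, map_neg, S.ci, S.skew v b, neg_smul, neg_neg]

/-- If `g` kills all `v ⊗ W'`, `v ⟂ b`, then `g = (g ∘ i b') ∘ c b`. -/
theorem eq_comp_c {X : Type*} [AddCommGroup X] [Module F X] {g : V →ₗ[F] X} {b b' : W}
    (hb : S.ω b b' = 1) (h : ∀ v, S.ω b v = 0 → ∀ y, g (S.i v y) = 0) (x : V) :
    g x = g (S.i b' (S.c b x)) := by
  have : g = (g ∘ₗ S.i b') ∘ₗ S.c b := by
    refine S.ext_i fun v y => ?_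
    have h1 : g (S.i (v - S.ω b v • b') y) = 0 := by
      refine h _ ?_ y
      rw [map_sub, map_smul, hb, smul_eq_mul, mul_one, sub_self]
    rw [map_sub, LinearMap.sub_apply, map_smul, LinearMap.smul_apply, map_sub, sub_eq_zero] at h1
    rw [h1, LinearMap.comp_apply, LinearMap.comp_apply, S.ci, map_smul, map_smul, map_smul]
  exact LinearMap.congr_fun this x

theorem Δ_sq (w : W) (x : V) : S.Δ w (S.Δ w x) = 0 := by
  rw [Δ_apply, Δ_apply, S.ci, S.alt, zero_smul, map_zero]

theorem Δ_smul (a : F) (w : W) : S.Δ (a • w) = (a * a) • S.Δ w := by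
  ext x
  simp only [Δ_apply, map_smul, LinearMap.smul_apply, smul_smul]

theorem Δ_mul_Δ_of_perp {w x : W} (h : S.ω w x = 0) : S.Δ w * S.Δ x = 0 := by
  ext v
  show S.i w (S.c w (S.i x (S.c x v))) = 0
  rw [S.ci, h, zero_smul, map_zero]

/-- The transvection `1 + l Δ w`. -/
def tv (w : W) (l : F) : (Module.End F V)ˣ where
  val := 1 + l • S.Δ w
  inv := 1 - l • S.Δ w
  val_inv := by
    have h : S.Δ w * S.Δ w = 0 := S.Δ_mul_Δ_of_perp (S.alt w)
    rw [add_mul, mul_sub, mul_sub, one_mul, one_mul, mul_one, smul_mul_smul_comm, h, smul_zero]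
    abel
  inv_val := by
    have h : S.Δ w * S.Δ w = 0 := S.Δ_mul_Δ_of_perp (S.alt w)
    rw [sub_mul, mul_add, mul_add, one_mul, one_mul, mul_one, smul_mul_smul_comm, h, smul_zero]
    abel

theorem coe_tv (w : W) (l : F) : ((S.tv w l : (Module.End F V)ˣ) : Module.End F V) = 1 + l • S.Δ w := rfl

theorem coe_tv_inv (w : W) (l : F) :
    (((S.tv w l)⁻¹ : (Module.End F V)ˣ) : Module.End F V) = 1 - l • S.Δ w := rfl

theorem tv_apply (w : W) (l : F) (x : V) :
    ((S.tv w l : (Module.End F V)ˣ) : Module.End F V) x = x + l • S.i w (S.c w x) := rfl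

theorem tv_inv_apply (w : W) (l : F) (x : V) :
    (((S.tv w l)⁻¹ : (Module.End F V)ˣ) : Module.End F V) x = x - l • S.i w (S.c w x) := rfl

theorem tv_neg (w : W) (l : F) : S.tv w (-l) = (S.tv w l)⁻¹ := by
  apply Units.ext
  rw [coe_tv, coe_tv_inv, neg_smul, sub_eq_add_neg]

theorem tv_add (w : W) (l l' : F) : S.tv w (l + l') = S.tv w l * S.tv w l' := by
  apply Units.ext
  have h : S.Δ w * S.Δ w = 0 := S.Δ_mul_Δ_of_perp (S.alt w)
  rw [Units.val_mul, coe_tv, coe_tv, coe_tv, add_mul, mul_add, mul_add, one_mul, one_mul, mul_one,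
    smul_mul_smul_comm, h, smul_zero, add_smul]
  abel

theorem tv_smul (a : F) (w : W) (l : F) : S.tv (a • w) l = S.tv w (l * (a * a)) := by
  apply Units.ext
  rw [coe_tv, coe_tv, Δ_smul, smul_smul]

/-- `S_{v,w} = v ⊗ ω(w, ·) + w ⊗ ω(v, ·)`, on `V`. -/
def Sv (w v : W) : Module.End F V := S.i v ∘ₗ S.c w + S.i w ∘ₗ S.c v

theorem Sv_apply (w v : W) (x : V) : S.Sv w v x = S.i v (S.c w x) + S.i w (S.c v x) := rfl

theorem Δ_add (w v : W) : S.Δ (w + v) = S.Δ w + S.Δ v + S.Sv w v := by
  ext x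
  simp only [Δ_apply, Sv_apply, map_add, LinearMap.add_apply]
  abel

theorem Sv_smul_self (w : W) (a : F) : S.Sv w (a • w) = (2 * a) • S.Δ w := by
  ext x
  simp only [Δ_apply, Sv_apply, map_smul, LinearMap.smul_apply, two_mul, add_smul, LinearMap.add_apply]

/-- The element `1 + S_{v,w}` for `v ⟂ w`. -/
def sg (w v : W) (h : S.ω w v = 0) : (Module.End F V)ˣ where
  val := 1 + S.Sv w v
  inv := 1 - S.Sv w v
  val_inv := by
    have h' : S.ω v w = 0 := S.perp_comm h
    ext x
    simp only [Module.End.mul_apply, LinearMap.add_apply, LinearMap.sub_apply, Module.End.one_apply, Sv_apply,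
      map_sub, map_add, S.ci, h, h', S.alt, zero_smul, map_zero]
    abel
  inv_val := by
    have h' : S.ω v w = 0 := S.perp_comm h
    ext x
    simp only [Module.End.mul_apply, LinearMap.add_apply, LinearMap.sub_apply, Module.End.one_apply, Sv_apply,
      map_add, S.ci, h, h', S.alt, zero_smul, map_zero]
    abel

theorem coe_sg (w v : W) (h : S.ω w v = 0) :
    ((S.sg w v h : (Module.End F V)ˣ) : Module.End F V) = 1 + S.Sv w v := rfl

theorem coe_sg_inv (w v : W) (h : S.ω w v = 0) :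
    (((S.sg w v h)⁻¹ : (Module.End F V)ˣ) : Module.End F V) = 1 - S.Sv w v := rfl

theorem sg_eq (w v : W) (h : S.ω w v = 0) :
    S.sg w v h = S.tv (w + v) 1 * S.tv w (-1) * S.tv v (-1) := by
  have h' : S.ω v w = 0 := S.perp_comm h
  apply Units.ext
  ext x
  simp only [Units.val_mul, coe_sg, Module.End.mul_apply, LinearMap.add_apply, Module.End.one_apply, Sv_apply,
    S.tv_apply, map_add, LinearMap.add_apply, S.ci, h, h', S.alt, zero_smul, map_zero,
    one_smul, neg_smul, map_neg, neg_zero]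
  abel

end Slot

end Cfsg.Agent.H874
end

-- part: H874/SlotQ
section
/-!
# The unipotent radical of the stabiliser of `w ⊗ W'`

`Good S M`: `M` contains all transvections `tv w l`; `1 + i w X c w ∈ M` only for scalar `X`;
`1 + (w ∧ b) ⊗ Z ∈ M` only for `Z = 0`.
`Good.radical`: an element of `M` acting trivially on `A = w ⊗ W'`, `A^⊥ / A`, `V / A^⊥` is `1 + S_{a,w} + l Δ w`.
-/

set_option autoImplicit false
set_option linter.unusedSimpArgs false
set_option linter.unusedVariables false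

namespace Cfsg.Agent.H874

namespace Slot

variable {F W W' V : Type*} [Field F] [AddCommGroup W] [Module F W] [AddCommGroup W'] [Module F W']
    [AddCommGroup V] [Module F V] (S : Slot F W W' V)

/-- The hypotheses on the group `M`. -/
structure Good (M : Subgroup (Module.End F V)ˣ) : Prop where
  tv_mem : ∀ w l, S.tv w l ∈ M
  h1 : ∀ w, w ≠ 0 → ∀ (X : Module.End F W') (g : (Module.End F V)ˣ), g ∈ M →
    (∀ x, (g : Module.End F V) x = x + S.i w (X (S.c w x))) → ∃ l : F, ∀ y, X y = l • y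
  h2 : ∀ w b, w ≠ 0 → S.ω w b = 0 → (∀ a : F, b ≠ a • w) → ∀ (Z : Module.End F W') (g : (Module.End F V)ˣ),
    g ∈ M → (∀ x, (g : Module.End F V) x = x + (S.i w (Z (S.c b x)) - S.i b (Z (S.c w x)))) → ∀ y, Z y = 0

variable {S}

theorem exists_perp_pair {w b : W} (hw : w ≠ 0) (hwb : S.ω w b = 0) (hb : ∀ a : F, b ≠ a • w) :
    ∃ b', S.ω w b' = 0 ∧ S.ω b' b = 1 := by
  obtain ⟨u, hu⟩ := S.exists_pair hw
  by_contra hcon
  push Not at hcon
  have h0 : ∀ x, S.ω w x = 0 → S.ω x b = 0 := by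
    intro x hx
    by_contra hxb
    refine hcon ((S.ω x b)⁻¹ • x) ?_ ?_
    · rw [map_smul, hx, smul_zero]
    · rw [map_smul, LinearMap.smul_apply, smul_eq_mul, inv_mul_cancel₀ hxb]
  refine hb (- S.ω u b) ?_
  rw [← sub_eq_zero]
  refine S.nondeg _ fun x => ?_
  have h1 := h0 (x - S.ω w x • u) (by rw [map_sub, map_smul, hu, smul_eq_mul, mul_one, sub_self])
  rw [map_sub, LinearMap.sub_apply, map_smul, LinearMap.smul_apply, smul_eq_mul] at h1
  rw [map_sub, LinearMap.sub_apply, map_smul, LinearMap.smul_apply, smul_eq_mul, S.skew b x]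
  linear_combination -h1

theorem apply_inv (g : (Module.End F V)ˣ) (x : V) :
    (g : Module.End F V) (((g⁻¹ : (Module.End F V)ˣ) : Module.End F V) x) = x := by
  rw [← Module.End.mul_apply, ← Units.val_mul, mul_inv_cancel, Units.val_one, Module.End.one_apply]

theorem inv_apply (g : (Module.End F V)ˣ) (x : V) :
    ((g⁻¹ : (Module.End F V)ˣ) : Module.End F V) ((g : Module.End F V) x) = x := by
  rw [← Module.End.mul_apply, ← Units.val_mul, inv_mul_cancel, Units.val_one, Module.End.one_apply]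

theorem ext_unit {g h : (Module.End F V)ˣ} (H : ∀ x, (g : Module.End F V) x = (h : Module.End F V) x) : g = h :=
  Units.ext (LinearMap.ext H)

/-- The inverse of a unit acting as `x + A x` with `A A = 0`. -/
theorem inv_apply_of_sq {g : (Module.End F V)ˣ} {A : V → V} (hg : ∀ x, (g : Module.End F V) x = x + A x)
    (hA : ∀ x, A (x - A x) = A x) (x : V) : ((g⁻¹ : (Module.End F V)ˣ) : Module.End F V) x = x - A x := by
  have h : (g : Module.End F V) (x - A x) = x := by rw [hg, hA, sub_add_cancel]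
  rw [← h, inv_apply, h]

/-- Step 4 of the computation of the radical. -/
theorem Good.step {M : Subgroup (Module.End F V)ˣ} (hM : S.Good M) (h2 : (2 : F) ≠ 0) {w : W} (hw : w ≠ 0)
    {g : (Module.End F V)ˣ} (hg : g ∈ M) (ha : ∀ y, (g : Module.End F V) (S.i w y) = S.i w y)
    (hb : ∀ x, S.c w ((g : Module.End F V) x) = S.c w x) {b : W} (hwb : S.ω w b = 0)
    (hbw : ∀ a : F, b ≠ a • w) (Z : Module.End F W')
    (h3 : ∀ y, (g : Module.End F V) (S.i b y) = S.i b y + S.i w (Z y))
    (h4 : ∀ x, S.c b ((g : Module.End F V) x) = S.c b x + Z (S.c w x)) : ∀ y, Z y = 0 := by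
  obtain ⟨b', hwb', hb'b⟩ := S.exists_perp_pair hw hwb hbw
  have hbw0 := S.perp_comm hwb
  have hb'w0 := S.perp_comm hwb'
  have hbb' : S.ω b b' = -1 := by rw [S.skew, hb'b]
  have ww := S.alt w
  have bb := S.alt b
  have b'b' := S.alt b'
  have ia : ∀ y, ((g⁻¹ : (Module.End F V)ˣ) : Module.End F V) (S.i w y) = S.i w y := by
    intro y
    conv_lhs => rw [← ha y]
    rw [inv_apply]
  have ib : ∀ x, S.c w (((g⁻¹ : (Module.End F V)ˣ) : Module.End F V) x) = S.c w x := by
    intro x
    conv_rhs => rw [← apply_inv g x, hb]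
  have i4 : ∀ x, S.c b (((g⁻¹ : (Module.End F V)ˣ) : Module.End F V) x) = S.c b x - Z (S.c w x) := by
    intro x
    have := h4 (((g⁻¹ : (Module.End F V)ˣ) : Module.End F V) x)
    rw [apply_inv, ib] at this
    rw [this, add_sub_cancel_right]
  -- the first commutator
  let g2 : (Module.End F V)ˣ := S.tv b 1 * g * (S.tv b 1)⁻¹ * g⁻¹
  have g2M : g2 ∈ M := M.mul_mem (M.mul_mem (M.mul_mem (hM.tv_mem _ _) hg) (M.inv_mem (hM.tv_mem _ _))) (M.inv_mem hg)
  have e2 : ∀ x, (g2 : Module.End F V) x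
      = x + (S.i b (Z (S.c w x)) - S.i w (Z (S.c b x)) + S.i w (Z (Z (S.c w x)))) := by
    intro x
    simp only [g2, Units.val_mul, Module.End.mul_apply, S.tv_apply, S.tv_inv_apply, one_smul, map_sub, map_add,
      apply_inv, i4, h3, S.ci, bb, hbw0, hwb, ww, zero_smul, map_zero]
    abel
  have hsq2 : ∀ x, (fun x => S.i b (Z (S.c w x)) - S.i w (Z (S.c b x)) + S.i w (Z (Z (S.c w x))))
      (x - (fun x => S.i b (Z (S.c w x)) - S.i w (Z (S.c b x)) + S.i w (Z (Z (S.c w x)))) x)
      = (fun x => S.i b (Z (S.c w x)) - S.i w (Z (S.c b x)) + S.i w (Z (Z (S.c w x)))) x := by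
    intro x
    simp only [map_sub, map_add, S.ci, bb, hbw0, hwb, ww, zero_smul, map_zero]
    abel
  have e2i := inv_apply_of_sq e2 hsq2
  -- the second commutator, for `b'` and `b' + b`
  have key : ∀ v, S.ω w v = 0 → S.ω v b = 1 →
      (∀ x, ((S.tv v 1 * g2 * (S.tv v 1)⁻¹ * g2⁻¹ : (Module.End F V)ˣ) : Module.End F V) x
      = x + (S.i v (Z (S.c w x)) - S.i w (Z (S.c v x)) + S.i w (Z (Z (S.c w x))))) := by
    intro v hwv hvb x
    have hvw := S.perp_comm hwv
    have hbv : S.ω b v = -1 := by rw [S.skew, hvb]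
    have vv := S.alt v
    simp only [Units.val_mul, Module.End.mul_apply, S.tv_apply, S.tv_inv_apply, one_smul, map_sub, map_add,
      e2, e2i, S.ci, bb, hbw0, hwb, ww, hwv, hvw, hvb, hbv, vv, zero_smul, map_zero, neg_smul, map_neg, sub_neg_eq_add]
    abel
  have hb''w : S.ω w (b' + b) = 0 := by rw [map_add, hwb', hwb, add_zero]
  have hb''b : S.ω (b' + b) b = 1 := by rw [map_add, LinearMap.add_apply, hb'b, bb, add_zero]
  let g3 : (Module.End F V)ˣ := S.tv b' 1 * g2 * (S.tv b' 1)⁻¹ * g2⁻¹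
  let g3' : (Module.End F V)ˣ := S.tv (b' + b) 1 * g2 * (S.tv (b' + b) 1)⁻¹ * g2⁻¹
  have g3M : g3 ∈ M := M.mul_mem (M.mul_mem (M.mul_mem (hM.tv_mem _ _) g2M) (M.inv_mem (hM.tv_mem _ _))) (M.inv_mem g2M)
  have g3'M : g3' ∈ M :=
    M.mul_mem (M.mul_mem (M.mul_mem (hM.tv_mem _ _) g2M) (M.inv_mem (hM.tv_mem _ _))) (M.inv_mem g2M)
  have e3 : ∀ x, (g3 : Module.End F V) x
      = x + (S.i b' (Z (S.c w x)) - S.i w (Z (S.c b' x)) + S.i w (Z (Z (S.c w x)))) := key b' hwb' hb'b
  have e3' : ∀ x, (g3' : Module.End F V) x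
      = x + (S.i (b' + b) (Z (S.c w x)) - S.i w (Z (S.c (b' + b) x)) + S.i w (Z (Z (S.c w x)))) :=
    key (b' + b) hb''w hb''b
  have hsq3 : ∀ x, (fun x => S.i b' (Z (S.c w x)) - S.i w (Z (S.c b' x)) + S.i w (Z (Z (S.c w x))))
      (x - (fun x => S.i b' (Z (S.c w x)) - S.i w (Z (S.c b' x)) + S.i w (Z (Z (S.c w x)))) x)
      = (fun x => S.i b' (Z (S.c w x)) - S.i w (Z (S.c b' x)) + S.i w (Z (Z (S.c w x)))) x := by
    intro x
    simp only [map_sub, map_add, S.ci, b'b', hb'w0, hwb', ww, zero_smul, map_zero]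
    abel
  have e3i := inv_apply_of_sq e3 hsq3
  let g4 : (Module.End F V)ˣ := g3' * g3⁻¹
  have e4 : ∀ x, (g4 : Module.End F V) x
      = x + (S.i b (Z (S.c w x)) - S.i w (Z (S.c b x)) - S.i w (Z (Z (S.c w x)))) := by
    intro x
    simp only [g4, Units.val_mul, Module.End.mul_apply, e3', e3i, map_sub, map_add, LinearMap.add_apply,
      S.ci, hbw0, hwb, ww, hwb', hb'w0, b'b', hb'b, hbb', one_smul, zero_smul, map_zero, neg_smul, map_neg]
    abel
  have hsq4 : ∀ x, (fun x => S.i b (Z (S.c w x)) - S.i w (Z (S.c b x)) - S.i w (Z (Z (S.c w x))))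
      (x - (fun x => S.i b (Z (S.c w x)) - S.i w (Z (S.c b x)) - S.i w (Z (Z (S.c w x)))) x)
      = (fun x => S.i b (Z (S.c w x)) - S.i w (Z (S.c b x)) - S.i w (Z (Z (S.c w x)))) x := by
    intro x
    simp only [map_sub, S.ci, bb, hbw0, hwb, ww, zero_smul, map_zero]
    abel
  have e4i := inv_apply_of_sq e4 hsq4
  -- `1 + 2 P`
  have e5 : ∀ x, ((g2 * g4⁻¹ : (Module.End F V)ˣ) : Module.End F V) x
      = x + S.i w (((2 : F) • (Z * Z)) (S.c w x)) := by
    intro x
    simp only [Units.val_mul, Module.End.mul_apply, e2, e4i, map_sub, LinearMap.smul_apply,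
      S.ci, bb, hbw0, hwb, ww, zero_smul, map_zero, two_smul, map_add, LinearMap.add_apply]
    abel
  obtain ⟨l, hl⟩ := hM.h1 w hw _ _ (M.mul_mem g2M (M.inv_mem (M.mul_mem g3'M (M.inv_mem g3M)))) e5
  have hZZ : ∀ y, Z (Z y) = (2⁻¹ * l) • y := by
    intro y
    have h5 := hl y
    rw [LinearMap.smul_apply, Module.End.mul_apply] at h5
    rw [mul_smul, ← h5, smul_smul, inv_mul_cancel₀ h2, one_smul]
  have e6 : ∀ x, ((g2 * S.tv w (- (2⁻¹ * l)) : (Module.End F V)ˣ) : Module.End F V) x
      = x + (S.i w ((-Z) (S.c b x)) - S.i b ((-Z) (S.c w x))) := by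
    intro x
    simp only [Units.val_mul, Module.End.mul_apply, e2, S.tv_apply, map_add, map_smul, neg_smul,
      S.ci, hbw0, ww, zero_smul, map_zero, hZZ, LinearMap.neg_apply, map_neg, smul_zero, neg_zero, add_zero]
    abel
  have h7 := hM.h2 w b hw hwb hbw (-Z) _ (M.mul_mem g2M (hM.tv_mem _ _)) e6
  intro y
  have := h7 y
  rwa [LinearMap.neg_apply, neg_eq_zero] at this

/-- Step 5: no part in `w^⊥ / w`. -/
theorem Good.step5 {M : Subgroup (Module.End F V)ˣ} (hM : S.Good M) (h2 : (2 : F) ≠ 0) {w : W} (hw : w ≠ 0)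
    {g : (Module.End F V)ˣ} (hg : g ∈ M) (ha : ∀ y, (g : Module.End F V) (S.i w y) = S.i w y)
    (hb : ∀ x, S.c w ((g : Module.End F V) x) = S.c w x) (Z : W → Module.End F W')
    (h3 : ∀ v, S.ω w v = 0 → ∀ y, (g : Module.End F V) (S.i v y) = S.i v y + S.i w (Z v y))
    (h4 : ∀ v, S.ω w v = 0 → ∀ x, S.c v ((g : Module.End F V) x) = S.c v x + Z v (S.c w x)) :
    ∃ l : F, g = S.tv w l := by
  obtain ⟨u, hu⟩ := S.exists_pair hw
  have hZ : ∀ v, S.ω w v = 0 → ∀ y, Z v y = 0 := by
    intro v hv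
    by_cases hvw : ∃ a : F, v = a • w
    · obtain ⟨a, rfl⟩ := hvw
      intro y
      have h5 := h3 (a • w) hv y
      rw [map_smul, LinearMap.smul_apply, map_smul, ha] at h5
      have h6 : S.i w (Z (a • w) y) = S.i w 0 := by rw [map_zero]; exact (left_eq_add.1 h5)
      exact S.i_injective hw h6
    · push Not at hvw
      exact hM.step h2 hw hg ha hb hv hvw (Z v) (h3 v hv) (h4 v hv)
  let η : V →ₗ[F] V := (g : Module.End F V) - 1
  have hη : ∀ x, η x = (g : Module.End F V) x - x := fun x => rfl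
  have k1 : ∀ v, S.ω w v = 0 → ∀ y, η (S.i v y) = 0 := by
    intro v hv y
    rw [hη, h3 v hv, hZ v hv, map_zero, add_zero, sub_self]
  have k2 : ∀ v, S.ω w v = 0 → ∀ x, S.c v (η x) = 0 := by
    intro v hv x
    rw [hη, map_sub, h4 v hv, hZ v hv, add_zero, sub_self]
  have k3 : ∀ x, (g : Module.End F V) x = x + S.i w ((-(S.c u ∘ₗ η ∘ₗ S.i u)) (S.c w x)) := by
    intro x
    have h5 := S.eq_i_of_perp hu (x := η x) (fun v hv => k2 v hv x)
    have h6 := S.eq_comp_c hu (g := η) k1 x
    rw [LinearMap.neg_apply, LinearMap.comp_apply, LinearMap.comp_apply, ← h6, map_neg, ← h5, hη,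
      add_sub_cancel]
  obtain ⟨l, hl⟩ := hM.h1 w hw _ g hg k3
  refine ⟨l, ext_unit fun x => ?_⟩
  rw [k3, hl, S.tv_apply, map_smul]

theorem exists_repr [FiniteDimensional F W] (φ : W →ₗ[F] F) : ∃ a, ∀ v, S.ω a v = φ v := by
  have hinj : Function.Injective S.ω := by
    rw [injective_iff_map_eq_zero]
    intro a h
    exact S.nondeg a fun x => by rw [h, LinearMap.zero_apply]
  have hsur : Function.Surjective (S.ω : W →ₗ[F] Module.Dual F W) :=
    (LinearMap.injective_iff_surjective_of_finrank_eq_finrank (Subspace.dual_finrank_eq (K := F) (V := W)).symm).1 hinj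
  obtain ⟨a, ha⟩ := hsur φ
  exact ⟨a, fun v => by rw [ha]⟩

/-- An element of `M` acting trivially on `w ⊗ W'`, on `V / (w ⊗ W')^⊥` and on the middle section. -/
theorem Good.radical [FiniteDimensional F W] [Nontrivial W'] {M : Subgroup (Module.End F V)ˣ} (hM : S.Good M)
    (h2 : (2 : F) ≠ 0) {w : W} (hw : w ≠ 0)
    {g : (Module.End F V)ˣ} (hg : g ∈ M) (ha : ∀ y, (g : Module.End F V) (S.i w y) = S.i w y)
    (hb : ∀ x, S.c w ((g : Module.End F V) x) = S.c w x)
    (hc : ∀ x, S.c w x = 0 → ∃ y, (g : Module.End F V) x = x + S.i w y) :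
    ∃ (a : W) (l : F), S.ω w a = 0 ∧ ∀ x, (g : Module.End F V) x = x + (S.Sv w a x + l • S.Δ w x) := by
  obtain ⟨u, hu⟩ := S.exists_pair hw
  have huw : S.ω u w = -1 := by rw [S.skew, hu]
  have ww := S.alt w
  let Y : W → Module.End F W' := fun v => -(S.c u ∘ₗ ((g : Module.End F V) - 1) ∘ₗ S.i v)
  let Y' : W → Module.End F W' := fun v => S.c v ∘ₗ ((g : Module.End F V) - 1) ∘ₗ S.i u
  have hY : ∀ v y, Y v y = -(S.c u ((g : Module.End F V) (S.i v y) - S.i v y)) := fun v y => rfl
  have hY' : ∀ v y, Y' v y = S.c v ((g : Module.End F V) (S.i u y) - S.i u y) := fun v y => rfl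
  have f1 : ∀ v, S.ω w v = 0 → ∀ y, (g : Module.End F V) (S.i v y) = S.i v y + S.i w (Y v y) := by
    intro v hv y
    obtain ⟨y', hy'⟩ := hc (S.i v y) (by rw [S.ci, hv, zero_smul])
    have h5 : y' = Y v y := by
      rw [hY, hy', add_sub_cancel_left, S.ci, huw, neg_smul, one_smul, neg_neg]
    rw [hy', h5]
  have f2 : ∀ v, S.ω w v = 0 → ∀ x, S.c v ((g : Module.End F V) x) = S.c v x + Y' v (S.c w x) := by
    intro v hv x
    have h5 := S.eq_comp_c hu (g := S.c v ∘ₗ ((g : Module.End F V) - 1)) (x := x) ?_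
    · have h6 : S.c v ((g : Module.End F V) x - x) = Y' v (S.c w x) := h5
      rw [← h6, map_sub, add_sub_cancel]
    · intro v' hv' y
      show S.c v ((g : Module.End F V) (S.i v' y) - S.i v' y) = 0
      rw [f1 v' hv', add_sub_cancel_left, S.ci, S.perp_comm hv, zero_smul]
  have ia : ∀ y, ((g⁻¹ : (Module.End F V)ˣ) : Module.End F V) (S.i w y) = S.i w y := by
    intro y
    conv_lhs => rw [← ha y]
    rw [inv_apply]
  have ib : ∀ x, S.c w (((g⁻¹ : (Module.End F V)ˣ) : Module.End F V) x) = S.c w x := by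
    intro x
    conv_rhs => rw [← apply_inv g x, hb]
  have f3 : ∀ v, S.ω w v = 0 → ∀ x, S.c v (((g⁻¹ : (Module.End F V)ˣ) : Module.End F V) x)
      = S.c v x - Y' v (S.c w x) := by
    intro v hv x
    have := f2 v hv (((g⁻¹ : (Module.End F V)ˣ) : Module.End F V) x)
    rw [apply_inv, ib] at this
    rw [this, add_sub_cancel_right]
  have sgM : ∀ v (hv : S.ω w v = 0), S.sg w v hv ∈ M := by
    intro v hv
    rw [S.sg_eq]
    exact M.mul_mem (M.mul_mem (hM.tv_mem _ _) (hM.tv_mem _ _)) (hM.tv_mem _ _)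
  have sg_apply : ∀ v (hv : S.ω w v = 0) (x : V), ((S.sg w v hv : (Module.End F V)ˣ) : Module.End F V) x
      = x + (S.i v (S.c w x) + S.i w (S.c v x)) := fun v hv x => rfl
  have sg_inv_apply : ∀ v (hv : S.ω w v = 0) (x : V), (((S.sg w v hv)⁻¹ : (Module.End F V)ˣ) : Module.End F V) x
      = x - (S.i v (S.c w x) + S.i w (S.c v x)) := fun v hv x => rfl
  have s1 : ∀ v, S.ω w v = 0 → ∃ l : F, ∀ y, Y v y - Y' v y = l • y := by
    intro v hv
    have hvw := S.perp_comm hv
    have vv := S.alt v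
    have e : ∀ x, ((g * S.sg w v hv * g⁻¹ * (S.sg w v hv)⁻¹ : (Module.End F V)ˣ) : Module.End F V) x
        = x + S.i w ((Y v - Y' v) (S.c w x)) := by
      intro x
      simp only [Units.val_mul, Module.End.mul_apply, sg_apply, sg_inv_apply, map_sub, map_add, apply_inv, ia, ib,
        f3 v hv, f1 v hv, ha, S.ci, vv, hvw, hv, ww, zero_smul, map_zero, LinearMap.sub_apply]
      abel
    obtain ⟨l, hl⟩ := hM.h1 w hw _ _ (M.mul_mem (M.mul_mem (M.mul_mem hg (sgM v hv)) (M.inv_mem hg))
      (M.inv_mem (sgM v hv))) e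
    exact ⟨l, hl⟩
  -- the functional `α`
  obtain ⟨y0, hy0⟩ := exists_ne (0 : W')
  obtain ⟨f0, hf0⟩ : ∃ f0 : Module.Dual F W', f0 y0 ≠ 0 := by
    by_contra hcon
    push Not at hcon
    exact hy0 ((Module.forall_dual_apply_eq_zero_iff F y0).1 hcon)
  let α : W →ₗ[F] F := ((2 : F)⁻¹ * (f0 y0)⁻¹) • (f0 ∘ₗ
    (-(S.c u ∘ₗ ((g : Module.End F V) - 1) ∘ₗ S.i.flip y0) - S.c.flip ((g : Module.End F V) (S.i u y0) - S.i u y0)))
  have hα : ∀ v, α v = ((2 : F)⁻¹ * (f0 y0)⁻¹) * f0 (Y v y0 - Y' v y0) := fun v => rfl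
  obtain ⟨a, haα⟩ := S.exists_repr α
  have s2 : ∀ v, S.ω w v = 0 → ∀ y, Y' v y = Y v y - (2 * S.ω a v) • y := by
    intro v hv y
    obtain ⟨l, hl⟩ := s1 v hv
    have h5 : S.ω a v = 2⁻¹ * l := by
      rw [haα, hα, hl, map_smul, smul_eq_mul]
      field_simp
    rw [h5, ← mul_assoc, mul_inv_cancel₀ h2, one_mul, ← hl, sub_sub_cancel]
  have haw : S.ω a w = 0 := by
    have h5 : Y w y0 = 0 := by rw [hY, ha, sub_self, map_zero, neg_zero]
    have h6 : Y' w y0 = 0 := by rw [hY', map_sub, hb, sub_self]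
    rw [haα, hα, h5, h6, sub_zero, map_zero, mul_zero]
  have hwa : S.ω w a = 0 := S.perp_comm haw
  have aa := S.alt a
  have hg1 : g * (S.sg w a hwa)⁻¹ ∈ M := M.mul_mem hg (M.inv_mem (sgM a hwa))
  obtain ⟨l, hl⟩ := hM.step5 h2 hw hg1
    (by
      intro y
      simp only [Units.val_mul, Module.End.mul_apply, sg_inv_apply, map_sub, map_add, ha, S.ci, ww, haw, zero_smul,
        map_zero, add_zero, sub_zero])
    (by
      intro x
      simp only [Units.val_mul, Module.End.mul_apply, sg_inv_apply, map_add, hb, S.ci, ww, hwa, zero_smul,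
        map_sub, add_zero, sub_zero])
    (fun v => Y v - S.ω a v • 1)
    (by
      intro v hv y
      have hvw := S.perp_comm hv
      simp only [Units.val_mul, Module.End.mul_apply, sg_inv_apply, map_sub, map_add, f1 v hv, ha, S.ci, hv,
        zero_smul, map_zero, zero_add, LinearMap.sub_apply, LinearMap.smul_apply, Module.End.one_apply, map_smul]
      abel)
    (by
      intro v hv x
      have hvw := S.perp_comm hv
      simp only [Units.val_mul, Module.End.mul_apply, sg_inv_apply, map_sub, map_add, f2 v hv, ha, S.ci, hv,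
        zero_smul, map_zero, LinearMap.sub_apply, LinearMap.smul_apply, Module.End.one_apply, s2 v hv, ww, hwa, hvw,
        S.skew v a, neg_smul, two_mul, add_smul, smul_zero]
      abel)
  refine ⟨a, l, hwa, fun x => ?_⟩
  have h7 : g = S.tv w l * S.sg w a hwa := by rw [← hl, inv_mul_cancel_right]
  rw [h7]
  simp only [Units.val_mul, Module.End.mul_apply, S.tv_apply, sg_apply, S.Sv_apply, S.Δ_apply, map_add, S.ci, hwa, ww,
    zero_smul, map_zero, add_zero]
  abel

end Slot

end Cfsg.Agent.H874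
end

-- part: H874/SlotAlg
section
/-!
# Pairs of square zero elements, pairs of elements generating a `p`-group
-/

set_option autoImplicit false
set_option linter.unusedSimpArgs false
set_option linter.unusedVariables false

namespace Cfsg.Agent.H874

section Ring

variable {A : Type*} [Ring A]

/-- If `δ² = ε² = 0` and the commutator of `1 + δ`, `1 + ε` commutes with `δ` and `ε` then `δ ε δ = 0`. -/
theorem class_two {δ ε : A} (h2 : ∀ x : A, x + x = 0 → x = 0) (hδ : δ * δ = 0) (hε : ε * ε = 0)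
    (h1 : (1 + δ) * (1 + ε) * (1 - δ) * (1 - ε) * δ = δ * ((1 + δ) * (1 + ε) * (1 - δ) * (1 - ε)))
    (h3 : (1 + δ) * (1 + ε) * (1 - δ) * (1 - ε) * ε = ε * ((1 + δ) * (1 + ε) * (1 - δ) * (1 - ε))) :
    δ * (ε * δ) = 0 ∧ ε * (δ * ε) = 0 := by
  have hδ' : ∀ x, δ * (δ * x) = 0 := fun x => by rw [← mul_assoc, hδ, zero_mul]
  have hε' : ∀ x, ε * (ε * x) = 0 := fun x => by rw [← mul_assoc, hε, zero_mul]
  have hc : (1 + δ) * (1 + ε) * (1 - δ) * (1 - ε)
      = 1 + δ * ε - ε * δ + ε * (δ * ε) - δ * (ε * δ) + δ * (ε * (δ * ε)) := by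
    simp only [mul_add, add_mul, mul_sub, sub_mul, mul_one, one_mul, mul_assoc, hδ, hδ', hε, hε', mul_zero, zero_mul]
    abel
  rw [hc] at h1 h3
  simp only [mul_add, add_mul, mul_sub, sub_mul, mul_one, one_mul, mul_assoc, hδ, hδ', hε, hε', mul_zero,
    add_zero, sub_zero, zero_add] at h1 h3
  have k1 := congrArg (fun x => δ * x) h1
  simp only [mul_add, mul_sub, hδ, hδ', sub_zero, add_zero, zero_add, zero_sub, neg_eq_zero, mul_zero] at k1
  have k3 := congrArg (fun x => ε * x) h3
  simp only [mul_add, mul_sub, hε, hε', sub_zero, add_zero, zero_add, zero_sub, neg_eq_zero, mul_zero] at k3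
  -- `k1 : δ (ε (δ (ε δ))) = 0`, `k3 : ε (δ (ε (δ ε))) = 0`
  rw [k1] at h1
  rw [k3] at h3
  have e1 : δ * (ε * (δ * ε)) = δ * (ε * δ) + δ * (ε * δ) + ε * (δ * (ε * δ)) := by
    have : δ * (ε * (δ * ε)) - (δ * (ε * δ) + δ * (ε * δ) + ε * (δ * (ε * δ))) = 0 := by
      have := sub_eq_zero.2 h1
      have h4 : δ * (ε * (δ * ε)) - (δ * (ε * δ) + δ * (ε * δ) + ε * (δ * (ε * δ)))
        = -((δ + δ * (ε * δ) + ε * (δ * (ε * δ)) + 0) - (δ - δ * (ε * δ) + δ * (ε * (δ * ε)))) := by abel
      rw [h4]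
      rw [neg_eq_zero]
      simpa using this
    exact sub_eq_zero.1 this
  have e3 : ε * (δ * (ε * δ)) = ε * (δ * ε) + ε * (δ * ε) + δ * (ε * (δ * ε)) := by
    have : ε * (δ * (ε * δ)) - (ε * (δ * ε) + ε * (δ * ε) + δ * (ε * (δ * ε))) = 0 := by
      have := sub_eq_zero.2 h3
      have h4 : ε * (δ * (ε * δ)) - (ε * (δ * ε) + ε * (δ * ε) + δ * (ε * (δ * ε)))
        = ((ε - ε * (δ * ε) - δ * (ε * (δ * ε))) - (ε + ε * (δ * ε) - ε * (δ * (ε * δ)) + 0)) := by abel
      rw [h4]
      simpa using this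
    exact sub_eq_zero.1 this
  have e4 : ε * (δ * ε) + δ * (ε * δ) = 0 := by
    apply h2
    have := e3
    rw [e1] at this
    have h5 : ε * (δ * ε) + δ * (ε * δ) + (ε * (δ * ε) + δ * (ε * δ))
      = (ε * (δ * ε) + ε * (δ * ε) + (δ * (ε * δ) + δ * (ε * δ) + ε * (δ * (ε * δ)))) - ε * (δ * (ε * δ)) := by abel
    rw [h5, ← this, sub_self]
  have e5 : δ * (ε * (δ * ε)) = 0 := by
    have := congrArg (fun x => δ * x) e4
    simpa only [mul_add, hδ', mul_zero, add_zero] using this
  have e6 : ε * (δ * (ε * δ)) = 0 := by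
    have := congrArg (fun x => ε * x) e4
    simpa only [mul_add, hε', mul_zero, zero_add] using this
  rw [e5, e6, add_zero] at e1
  have e7 := h2 _ e1.symm
  rw [e7, add_zero] at e4
  exact ⟨e7, e4⟩

end Ring

section PGroup

open Subgroup

variable {G : Type*} [Group G] {p : ℕ} [Fact p.Prime]

theorem closure_conj_lt {x y : G} [Finite (closure ({x, y} : Set G))]
    (hp : IsPGroup p (closure ({x, y} : Set G))) (hxy : x * y ≠ y * x) :
    closure ({x, y * x * y⁻¹} : Set G) < closure ({x, y} : Set G) := by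
  have hx : x ∈ closure ({x, y} : Set G) := subset_closure (by simp)
  have hy : y ∈ closure ({x, y} : Set G) := subset_closure (by simp)
  have hle : closure ({x, y * x * y⁻¹} : Set G) ≤ closure ({x, y} : Set G) := by
    rw [closure_le]
    rintro z (rfl | rfl)
    · exact hx
    · exact mul_mem (mul_mem hy hx) (inv_mem hy)
  refine lt_of_le_of_ne hle ?_
  intro heq
  set K := closure ({x, y} : Set G) with hK
  have hne : zpowers (⟨x, hx⟩ : K) ≠ ⊤ := by
    intro h
    have hy' : (⟨y, hy⟩ : K) ∈ zpowers (⟨x, hx⟩ : K) := by rw [h]; exact mem_top _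
    obtain ⟨n, hn⟩ := hy'
    have h1 : x ^ n = y := congrArg Subtype.val hn
    apply hxy
    rw [← h1, ← zpow_one_add, ← zpow_add_one, add_comm]
  obtain ⟨N, hN, hxN⟩ := (eq_top_or_exists_le_coatom (zpowers (⟨x, hx⟩ : K))).resolve_left hne
  have hnil : Group.IsNilpotent K := hp.isNilpotent
  have hNn : N.Normal := Subgroup.NormalizerCondition.normal_of_coatom N (Group.normalizerCondition_of_isNilpotent) hN
  have h1 : (⟨x, hx⟩ : K) ∈ N := hxN (mem_zpowers _)
  have h2 : (⟨y, hy⟩ * ⟨x, hx⟩ * (⟨y, hy⟩)⁻¹ : K) ∈ N := hNn.conj_mem _ h1 _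
  have h3 : closure ({x, y * x * y⁻¹} : Set G) ≤ N.map K.subtype := by
    rw [closure_le]
    rintro z (rfl | rfl)
    · exact ⟨_, h1, rfl⟩
    · exact ⟨_, h2, rfl⟩
  rw [heq] at h3
  apply hN.1
  rw [eq_top_iff]
  rintro z -
  obtain ⟨z', hz', h4⟩ := h3 z.2
  have : z' = z := Subtype.ext h4
  rwa [← this]

/-- In a conjugation invariant set, a noncommuting pair generating a `p`-group gives a noncommuting pair generating a
group of class two. -/
theorem exists_class_two (M : Subgroup G) [Finite M] (D : Set G) (hDM : ∀ x ∈ D, x ∈ M)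
    (hD : ∀ g ∈ M, ∀ x ∈ D, g * x * g⁻¹ ∈ D) :
    ∀ (n : ℕ) (x y : G), x ∈ D → y ∈ D → Nat.card (closure ({x, y} : Set G)) ≤ n →
      IsPGroup p (closure ({x, y} : Set G)) → x * y ≠ y * x →
      ∃ x' ∈ D, ∃ y' ∈ D, x' * y' ≠ y' * x' ∧ Commute (x' * y' * x'⁻¹ * y'⁻¹) x' ∧
        Commute (x' * y' * x'⁻¹ * y'⁻¹) y' := by
  intro n
  induction n with
  | zero =>
    intro x y hx hy hcard
    have : closure ({x, y} : Set G) ≤ M := by
      rw [closure_le]
      rintro z (rfl | rfl)
      · exact hDM _ hx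
      · exact hDM _ hy
    have : Finite (closure ({x, y} : Set G)) := Finite.of_injective _ (Subgroup.inclusion_injective this)
    have := Nat.card_pos (α := closure ({x, y} : Set G))
    omega
  | succ n ih =>
    have key : ∀ x y : G, x ∈ D → y ∈ D → Nat.card (closure ({x, y} : Set G)) ≤ n + 1 →
      IsPGroup p (closure ({x, y} : Set G)) → x * y ≠ y * x → ¬ Commute x (y * x * y⁻¹) →
      ∃ x' ∈ D, ∃ y' ∈ D, x' * y' ≠ y' * x' ∧ Commute (x' * y' * x'⁻¹ * y'⁻¹) x' ∧
        Commute (x' * y' * x'⁻¹ * y'⁻¹) y' := by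
      intro x y hx hy hcard hp hxy hne
      have hle : closure ({x, y} : Set G) ≤ M := by
        rw [closure_le]
        rintro z (rfl | rfl)
        · exact hDM _ hx
        · exact hDM _ hy
      have hfin : Finite (closure ({x, y} : Set G)) := Finite.of_injective _ (Subgroup.inclusion_injective hle)
      have hlt := closure_conj_lt hp hxy
      refine ih x (y * x * y⁻¹) hx (hD y (hDM y hy) x hx) ?_ (hp.to_le hlt.le) hne
      have h1 : Nat.card (closure ({x, y * x * y⁻¹} : Set G)) < Nat.card (closure ({x, y} : Set G)) :=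
        Set.ncard_lt_ncard (s := (closure ({x, y * x * y⁻¹} : Set G) : Set G)) hlt
      omega
    intro x y hx hy hcard hp hxy
    by_cases c1 : Commute x (y * x * y⁻¹)
    · by_cases c2 : Commute y (x * y * x⁻¹)
      · refine ⟨x, hx, y, hy, hxy, ?_, ?_⟩
        · have h1 : x * y * x⁻¹ * y⁻¹ = x * (y * x * y⁻¹)⁻¹ := by group
          rw [h1]
          exact (Commute.refl x).mul_left c1.symm.inv_left
        · exact c2.symm.mul_left (Commute.refl y).inv_left
      · have e : ({y, x} : Set G) = {x, y} := Set.pair_comm _ _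
        exact key y x hy hx (by rw [e]; exact hcard) (by rw [e]; exact hp) (Ne.symm hxy) c2
    · exact key x y hx hy hcard hp hxy c1

end PGroup

end Cfsg.Agent.H874
end

-- part: H874/SlotInv
section
/-!
# Two quadratic elements not generating a `p`-group: an involution
-/

set_option autoImplicit false
set_option linter.unusedSimpArgs false
set_option linter.unusedVariables false

namespace Cfsg.Agent.H874

open Subgroup

variable {F V : Type*} [Field F] [AddCommGroup V] [Module F V]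

/-- The action of the units of `End V` on the group `V`. -/
def actHom : (Module.End F V)ˣ →* MulAut (Multiplicative V) where
  toFun g :=
    { toFun := fun x => Multiplicative.ofAdd ((g : Module.End F V) (Multiplicative.toAdd x))
      invFun := fun x => Multiplicative.ofAdd (((g⁻¹ : (Module.End F V)ˣ) : Module.End F V) (Multiplicative.toAdd x))
      left_inv := fun x => by
        show Multiplicative.ofAdd ((((g⁻¹ : (Module.End F V)ˣ) : Module.End F V) * (g : Module.End F V))
          (Multiplicative.toAdd x)) = x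
        rw [← Units.val_mul, inv_mul_cancel]
        rfl
      right_inv := fun x => by
        show Multiplicative.ofAdd (((g : Module.End F V) * ((g⁻¹ : (Module.End F V)ˣ) : Module.End F V))
          (Multiplicative.toAdd x)) = x
        rw [← Units.val_mul, mul_inv_cancel]
        rfl
      map_mul' := fun x y => by
        show Multiplicative.ofAdd ((g : Module.End F V) (Multiplicative.toAdd x + Multiplicative.toAdd y)) = _
        rw [map_add]
        rfl }
  map_one' := rfl
  map_mul' g h := rfl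

theorem actHom_apply (g : (Module.End F V)ˣ) (x : Multiplicative V) :
    actHom g x = Multiplicative.ofAdd ((g : Module.End F V) (Multiplicative.toAdd x)) := rfl

theorem actHom_injective : Function.Injective (actHom (F := F) (V := V)) := by
  intro g h hgh
  apply Units.ext
  ext x
  have := congrArg (fun f : MulAut (Multiplicative V) => Multiplicative.toAdd (f (Multiplicative.ofAdd x))) hgh
  exact this

theorem exists_involution {p : ℕ} [Fact p.Prime] [CharP F p] (hp2 : p ≠ 2) [Finite V] {d e : (Module.End F V)ˣ}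
    (hd : ∀ x, (d : Module.End F V) ((d : Module.End F V) x - x) = (d : Module.End F V) x - x)
    (he : ∀ x, (e : Module.End F V) ((e : Module.End F V) x - x) = (e : Module.End F V) x - x)
    (hnp : ¬ IsPGroup p (closure ({d, e} : Set (Module.End F V)ˣ))) :
    ∃ z ∈ closure ({d, e} : Set (Module.End F V)ˣ), z ≠ 1 ∧ z * z = 1 := by
  classical
  set K := closure ({d, e} : Set (Module.End F V)ˣ) with hK
  have hdK : d ∈ K := subset_closure (by simp)
  have heK : e ∈ K := subset_closure (by simp)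
  have hchar : ∀ x : V, p • x = 0 := by
    intro x
    rw [← Nat.cast_smul_eq_nsmul F, CharP.cast_eq_zero, zero_smul]
  have hP : IsPGroup p (Multiplicative V) := by
    intro x
    refine ⟨1, ?_⟩
    rw [pow_one]
    exact hchar (Multiplicative.toAdd x)
  have hfinE : Finite (Module.End F V) := Finite.of_injective (fun f : Module.End F V => (f : V → V)) DFunLike.coe_injective
  have hfin : Finite (Module.End F V)ˣ := Finite.of_injective _ Units.val_injective
  have hgen : closure ({⟨d, hdK⟩, ⟨e, heK⟩} : Set K) = ⊤ := by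
    rw [eq_top_iff]
    have h1 : (closure ({⟨d, hdK⟩, ⟨e, heK⟩} : Set K)).map K.subtype = K := by
      rw [MonoidHom.map_closure, Set.image_pair]
      exact hK.symm
    rintro ⟨x, hx⟩ -
    have hx' := hx
    rw [← h1] at hx'
    obtain ⟨y, hy, h2⟩ := hx'
    have : y = ⟨x, hx⟩ := Subtype.ext h2
    rwa [← this]
  obtain ⟨W, ee, K₁, σ, -, hσ, -⟩ := Cfsg.Agent.PLocal.QuadraticDickson.exists_natural_section hp2 hP
    ((actHom (F := F) (V := V)).comp K.subtype) ⟨d, hdK⟩ ⟨e, heK⟩ hgen
    (by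
      intro x
      have h1 := hd (Multiplicative.toAdd x)
      show Multiplicative.ofAdd ((d : Module.End F V) (-(Multiplicative.toAdd x)
        + (d : Module.End F V) (Multiplicative.toAdd x)))
        = Multiplicative.ofAdd (-(Multiplicative.toAdd x) + (d : Module.End F V) (Multiplicative.toAdd x))
      rw [neg_add_eq_sub, h1])
    (by
      intro x
      have h1 := he (Multiplicative.toAdd x)
      show Multiplicative.ofAdd ((e : Module.End F V) (-(Multiplicative.toAdd x)
        + (e : Module.End F V) (Multiplicative.toAdd x)))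
        = Multiplicative.ofAdd (-(Multiplicative.toAdd x) + (e : Module.End F V) (Multiplicative.toAdd x))
      rw [neg_add_eq_sub, h1])
    (by
      intro h
      apply hnp
      intro k
      obtain ⟨n, hn⟩ := h k
      refine ⟨n, ?_⟩
      have h1 : actHom ((k : (Module.End F V)ˣ) ^ p ^ n) = 1 := by
        rw [map_pow]
        exact hn
      have h2 : (k : (Module.End F V)ˣ) ^ p ^ n = 1 := by
        apply actHom_injective
        rw [h1, map_one]
      exact Subtype.ext h2)
  -- an element of order two of `SL₂(p)`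
  have hneg : ((-1 : Matrix.SpecialLinearGroup (Fin 2) (ZMod p))) ≠ 1 := by
    intro h
    have h1 := congrArg (fun g : Matrix.SpecialLinearGroup (Fin 2) (ZMod p) => (g : Matrix (Fin 2) (Fin 2) (ZMod p)) 0 0) h
    have h2 : (-1 : ZMod p) = 1 := by
      simpa using h1
    have h3 : ((2 : ℕ) : ZMod p) = 0 := by
      push_cast
      linear_combination -h2
    rw [ZMod.natCast_eq_zero_iff] at h3
    have h4 := (Nat.prime_dvd_prime_iff_eq (Fact.out : p.Prime) Nat.prime_two).1 h3
    exact hp2 h4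
  have hord : orderOf (-1 : Matrix.SpecialLinearGroup (Fin 2) (ZMod p)) = 2 := by
    apply orderOf_eq_prime
    · rw [neg_one_sq]
    · exact hneg
  have hdvd : 2 ∣ Nat.card K := by
    have h1 : 2 ∣ Nat.card (Matrix.SpecialLinearGroup (Fin 2) (ZMod p)) := by
      have h5 := _root_.orderOf_dvd_natCard (-1 : Matrix.SpecialLinearGroup (Fin 2) (ZMod p))
      rwa [hord] at h5
    exact (h1.trans (Subgroup.card_dvd_of_surjective σ hσ)).trans (Subgroup.card_subgroup_dvd_card K₁)
  obtain ⟨z, hz⟩ := exists_prime_orderOf_dvd_card' 2 hdvd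
  refine ⟨z, z.2, ?_, ?_⟩
  · intro h
    have : z = 1 := Subtype.ext h
    rw [this, orderOf_one] at hz
    exact absurd hz (by norm_num)
  · have h1 : z ^ 2 = 1 := by rw [← hz]; exact pow_orderOf_eq_one z
    have h2 := congrArg Subtype.val h1
    rw [← pow_two]
    exact h2

end Cfsg.Agent.H874
end

-- part: H874/SlotP
section
/-!
# Conjugates of slot transvections generating a `p`-group commute

`DM M` : the `M`-conjugates of the transvections `tv w l`. `Good.comm_of_pgroup` : two members of `DM M` generating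
a `p`-group commute.
-/

set_option autoImplicit false
set_option linter.unusedSimpArgs false
set_option linter.unusedVariables false

namespace Cfsg.Agent.H874

open Subgroup

namespace Slot

variable {F W W' V : Type*} [Field F] [AddCommGroup W] [Module F W] [AddCommGroup W'] [Module F W']
    [AddCommGroup V] [Module F V] (S : Slot F W W' V)

/-- The `M`-conjugates of the slot transvections. -/
def DM (M : Subgroup (Module.End F V)ˣ) : Set (Module.End F V)ˣ :=
  {e | ∃ g ∈ M, ∃ w, w ≠ 0 ∧ ∃ l : F, l ≠ 0 ∧ e = g * S.tv w l * g⁻¹}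

variable {S}

theorem conj_mem_DM {M : Subgroup (Module.End F V)ˣ} {g x : (Module.End F V)ˣ} (hg : g ∈ M) (hx : x ∈ S.DM M) :
    g * x * g⁻¹ ∈ S.DM M := by
  obtain ⟨h, hh, w, hw, l, hl, rfl⟩ := hx
  exact ⟨g * h, M.mul_mem hg hh, w, hw, l, hl, by group⟩

theorem tv_mem_DM (M : Subgroup (Module.End F V)ˣ) {w : W} (hw : w ≠ 0) {l : F} (hl : l ≠ 0) : S.tv w l ∈ S.DM M :=
  ⟨1, M.one_mem, w, hw, l, hl, by group⟩

/-- A member of `DM M` in factored form. -/
theorem exists_factor {M : Subgroup (Module.End F V)ˣ} {e : (Module.End F V)ˣ} (he : e ∈ S.DM M) :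
    ∃ (A : W' →ₗ[F] V) (B : V →ₗ[F] W'), (∀ x, (e : Module.End F V) x = x + A (B x)) ∧ (∀ y, B (A y) = 0) ∧
      Function.Injective A ∧ Function.Surjective B := by
  obtain ⟨g, hg, w, hw, l, hl, rfl⟩ := he
  refine ⟨l • ((g : Module.End F V) ∘ₗ S.i w), S.c w ∘ₗ ((g⁻¹ : (Module.End F V)ˣ) : Module.End F V), ?_, ?_, ?_, ?_⟩
  · intro x
    simp only [Units.val_mul, Module.End.mul_apply, S.tv_apply, map_add, map_smul, apply_inv, LinearMap.smul_apply,
      LinearMap.comp_apply]
  · intro y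
    simp only [LinearMap.smul_apply, LinearMap.comp_apply, map_smul, inv_apply, S.ci, S.alt, zero_smul, smul_zero]
  · intro y y' h
    have h1 := congrArg (fun z => (((g⁻¹ : (Module.End F V)ˣ) : Module.End F V) (l⁻¹ • z))) h
    simp only [LinearMap.smul_apply, LinearMap.comp_apply, smul_smul, inv_mul_cancel₀ hl, one_smul, inv_apply] at h1
    exact S.i_injective hw h1
  · intro y
    obtain ⟨u, hu⟩ := S.exists_pair hw
    refine ⟨(g : Module.End F V) (S.i u y), ?_⟩
    rw [LinearMap.comp_apply, inv_apply, S.ci, hu, one_smul]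

theorem DM_subset {M : Subgroup (Module.End F V)ˣ} (hM : ∀ w l, S.tv w l ∈ M) {e : (Module.End F V)ˣ}
    (he : e ∈ S.DM M) : e ∈ M := by
  obtain ⟨g, hg, w, hw, l, hl, rfl⟩ := he
  exact M.mul_mem (M.mul_mem hg (hM _ _)) (M.inv_mem hg)

/-- The class two case. -/
theorem Good.class_two_false [FiniteDimensional F W] [Nontrivial W'] [FiniteDimensional F W'] [FiniteDimensional F V]
    {M : Subgroup (Module.End F V)ˣ} (hM : S.Good M) (h2 : (2 : F) ≠ 0) {w : W} (hw : w ≠ 0) {l : F} (hl : l ≠ 0)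
    {e : (Module.End F V)ˣ} (he : e ∈ S.DM M)
    (c1 : Commute (S.tv w l * e * (S.tv w l)⁻¹ * e⁻¹) (S.tv w l))
    (c2 : Commute (S.tv w l * e * (S.tv w l)⁻¹ * e⁻¹) e) : S.tv w l * e = e * S.tv w l := by
  by_contra hne
  obtain ⟨A, B, heAB, hBA, hAi, hBs⟩ := exists_factor he
  have heM := DM_subset hM.tv_mem he
  have ww := S.alt w
  let δ : Module.End F V := l • S.Δ w
  let ε : Module.End F V := A ∘ₗ B
  have hδa : ∀ x, δ x = l • S.i w (S.c w x) := fun x => rfl
  have hεa : ∀ x, ε x = A (B x) := fun x => rfl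
  have hδ : δ * δ = 0 := by
    ext x
    rw [Module.End.mul_apply, hδa, hδa, map_smul, map_smul, S.ci, ww, zero_smul, map_zero, smul_zero, smul_zero,
      LinearMap.zero_apply]
  have hε : ε * ε = 0 := by
    ext x
    rw [Module.End.mul_apply, hεa, hεa, hBA, map_zero, LinearMap.zero_apply]
  have hd1 : ((S.tv w l : (Module.End F V)ˣ) : Module.End F V) = 1 + δ := rfl
  have hd2 : (((S.tv w l)⁻¹ : (Module.End F V)ˣ) : Module.End F V) = 1 - δ := rfl
  have he1 : (e : Module.End F V) = 1 + ε := by ext x; exact heAB x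
  have he2 : ((e⁻¹ : (Module.End F V)ˣ) : Module.End F V) = 1 - ε := by
    ext x
    exact inv_apply_of_sq heAB (by intro x; rw [map_sub, hBA, sub_zero]) x
  have hcoe : ((S.tv w l * e * (S.tv w l)⁻¹ * e⁻¹ : (Module.End F V)ˣ) : Module.End F V)
      = (1 + δ) * (1 + ε) * (1 - δ) * (1 - ε) := by
    rw [Units.val_mul, Units.val_mul, Units.val_mul, hd1, hd2, he1, he2]
  have h2A : ∀ x : Module.End F V, x + x = 0 → x = 0 := by
    intro x hx
    rw [← two_smul F x] at hx
    exact (smul_eq_zero.1 hx).resolve_left h2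
  have k1 : (1 + δ) * (1 + ε) * (1 - δ) * (1 - ε) * (1 + δ) = (1 + δ) * ((1 + δ) * (1 + ε) * (1 - δ) * (1 - ε)) := by
    have h5 := congrArg Units.val c1.eq
    rwa [Units.val_mul, Units.val_mul (S.tv w l), hcoe, hd1] at h5
  have k2 : (1 + δ) * (1 + ε) * (1 - δ) * (1 - ε) * (1 + ε) = (1 + ε) * ((1 + δ) * (1 + ε) * (1 - δ) * (1 - ε)) := by
    have h5 := congrArg Units.val c2.eq
    rwa [Units.val_mul, Units.val_mul e, hcoe, he1] at h5
  have hcomm : ∀ a b : Module.End F V, a * (1 + b) = (1 + b) * a → a * b = b * a := by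
    intro a b h
    rw [mul_add, add_mul, mul_one, one_mul] at h
    exact add_left_cancel h
  obtain ⟨hδεδ, hεδε⟩ := class_two h2A hδ hε (hcomm _ _ k1) (hcomm _ _ k2)
  have hδεδa : ∀ x, δ (ε (δ x)) = 0 := fun x => LinearMap.congr_fun hδεδ x
  have hεδεa : ∀ x, ε (δ (ε x)) = 0 := fun x => LinearMap.congr_fun hεδε x
  have hεεa : ∀ x, ε (ε x) = 0 := fun x => by
    rw [← Module.End.mul_apply, hε, LinearMap.zero_apply]
  have hδδa : ∀ x, δ (δ x) = 0 := fun x => by
    rw [← Module.End.mul_apply, hδ, LinearMap.zero_apply]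
  obtain ⟨u, hu⟩ := S.exists_pair hw
  have huw : S.ω u w = -1 := by rw [S.skew, hu]
  have hN : ∀ y, S.c w (ε (S.i w y)) = 0 := by
    intro y
    have h5 := hδεδa (S.i u y)
    rw [hδa (S.i u y), S.ci, hu, one_smul, map_smul, map_smul, hδa] at h5
    have h6 := (smul_eq_zero.1 ((smul_eq_zero.1 h5).resolve_left hl)).resolve_left hl
    have h7 : S.i w (S.c w (ε (S.i w y))) = S.i w 0 := by rw [h6, map_zero]
    exact S.i_injective hw h7
  -- the commutator
  let g0 : (Module.End F V)ˣ := S.tv w l * e * (S.tv w l)⁻¹ * e⁻¹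
  have hg0M : g0 ∈ M := M.mul_mem (M.mul_mem (M.mul_mem (hM.tv_mem _ _) heM) (M.inv_mem (hM.tv_mem _ _))) (M.inv_mem heM)
  have hg0 : ∀ x, (g0 : Module.End F V) x = x + (δ (ε x) - ε (δ x)) := by
    intro x
    show ((S.tv w l * e * (S.tv w l)⁻¹ * e⁻¹ : (Module.End F V)ˣ) : Module.End F V) x = _
    rw [hcoe]
    simp only [Module.End.mul_apply, LinearMap.add_apply, LinearMap.sub_apply, Module.End.one_apply, map_sub, map_add,
      hδεδa, hεδεa, hεεa, hδδa, map_zero]
    abel
  obtain ⟨a, m, hwa, ham⟩ := hM.radical h2 hw hg0M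
    (by
      intro y
      rw [hg0, hδa, hδa, hN, S.ci, ww, zero_smul, map_zero, smul_zero, map_zero, sub_zero, add_zero])
    (by
      intro x
      rw [hg0, hδa, hδa, map_add, map_sub, map_smul, map_smul, map_smul, S.ci, ww, zero_smul, smul_zero, hN, smul_zero,
        sub_zero, add_zero])
    (by
      intro x hx
      refine ⟨l • S.c w (ε x), ?_⟩
      rw [hg0, hδa, hδa, hx, map_zero, smul_zero, map_zero, sub_zero, map_smul])
  have E : ∀ x, l • S.i w (S.c w (ε x)) - l • ε (S.i w (S.c w x))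
      = S.i a (S.c w x) + S.i w (S.c a x) + m • S.i w (S.c w x) := by
    intro x
    have h5 := ham x
    rw [hg0, add_right_inj, S.Sv_apply, S.Δ_apply, hδa, hδa, map_smul] at h5
    exact h5
  by_cases hcase : ∃ t : F, a = t • w
  · -- `a ∈ ⟨w⟩`
    obtain ⟨t, rfl⟩ := hcase
    obtain ⟨μ, hμ⟩ : ∃ μ : F, μ = l⁻¹ * (2 * t + m) := ⟨_, rfl⟩
    have E' : ∀ x, S.i w (S.c w (ε x)) - ε (S.i w (S.c w x)) = μ • S.i w (S.c w x) := by
      intro x
      have h5 := congrArg (fun z => l⁻¹ • z) (E x)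
      simp only [smul_sub, smul_smul, inv_mul_cancel₀ hl, one_smul, map_smul, LinearMap.smul_apply, smul_add] at h5
      rw [h5, hμ]
      module
    let Bf : W' → W' := fun y => S.c w (ε (S.i u y)) - μ • y
    have hB : ∀ y, ε (S.i w y) = S.i w (Bf y) := by
      intro y
      have h5 := E' (S.i u y)
      rw [S.ci, hu, one_smul] at h5
      show _ = S.i w (S.c w (ε (S.i u y)) - μ • y)
      rw [map_sub, map_smul, ← h5, sub_sub_cancel]
    have hBB : ∀ y, Bf (Bf y) = 0 := by
      intro y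
      have h5 : S.i w (Bf (Bf y)) = S.i w 0 := by rw [← hB, ← hB, hεεa, map_zero]
      exact S.i_injective hw h5
    have hC : ∀ x, S.c w (ε x) = Bf (S.c w x) + μ • S.c w x := by
      intro x
      have h5 := E' x
      rw [hB, ← map_sub, ← map_smul] at h5
      have h6 := S.i_injective hw h5
      rw [← h6, add_sub_cancel]
    have hμ0 : μ = 0 := by
      by_contra hμ0
      obtain ⟨z, hz⟩ := exists_ne (0 : W')
      have h5 := hC (ε (S.i u z))
      have h6 := hC (S.i u z)
      rw [S.ci, hu, one_smul] at h6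
      rw [hεεa, map_zero, h6] at h5
      have hlin : ∀ y y', Bf (y + y') = Bf y + Bf y' := by
        intro y y'
        show S.c w (ε (S.i u (y + y'))) - μ • (y + y') = _
        rw [map_add, map_add, map_add, smul_add]
        show _ = (S.c w (ε (S.i u y)) - μ • y) + (S.c w (ε (S.i u y')) - μ • y')
        abel
      have hlin2 : ∀ (c : F) y, Bf (c • y) = c • Bf y := by
        intro c y
        show S.c w (ε (S.i u (c • y))) - μ • (c • y) = c • (S.c w (ε (S.i u y)) - μ • y)
        rw [map_smul, map_smul, map_smul, smul_sub, smul_comm]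
      rw [hlin, hBB, zero_add, hlin2, smul_add] at h5
      -- `0 = μ B z + (μ B z + μ² z)`
      have h7 : Bf z = (-(2⁻¹ * μ)) • z := by
        have h8 : (2 * μ) • Bf z = (2 * μ) • ((-(2⁻¹ * μ)) • z) := by
          rw [smul_smul]
          have h9 : 2 * μ * -(2⁻¹ * μ) = -(μ * μ) := by field_simp
          rw [h9, neg_smul, mul_smul, mul_smul, two_smul]
          rw [← sub_eq_zero, sub_neg_eq_add, add_assoc]
          exact h5.symm
        exact smul_right_injective _ (mul_ne_zero h2 hμ0) h8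
      have h8 := hBB z
      rw [h7, hlin2, h7, smul_smul] at h8
      rcases smul_eq_zero.1 h8 with h9 | h9
      · have : μ * μ = 0 := by
          have h10 : -(2⁻¹ * μ) * -(2⁻¹ * μ) = (2⁻¹ * 2⁻¹) * (μ * μ) := by ring
          rw [h10] at h9
          exact (mul_eq_zero.1 h9).resolve_left (mul_ne_zero (inv_ne_zero h2) (inv_ne_zero h2))
        exact hμ0 (mul_self_eq_zero.1 this)
      · exact hz h9
    apply hne
    apply ext_unit
    intro x
    have h5 := E' x
    rw [hμ0, zero_smul, sub_eq_zero] at h5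
    simp only [Units.val_mul, Module.End.mul_apply, S.tv_apply, he1, LinearMap.add_apply, Module.End.one_apply, map_add,
      map_smul, h5, smul_add, add_assoc]
  · push Not at hcase
    obtain ⟨x0, hx0, hx0a⟩ := S.exists_perp_pair hw hwa hcase
    have hx0w := S.perp_comm hx0
    have hinj : Function.Injective (ε ∘ₗ S.i w) := by
      rw [← LinearMap.ker_eq_bot, LinearMap.ker_eq_bot']
      intro y hy
      rw [LinearMap.comp_apply] at hy
      have h5 := congrArg (S.c x0) (E (S.i u y))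
      rw [S.ci w u, hu, one_smul, hy, smul_zero, sub_zero, map_smul, S.ci, hx0w, zero_smul, smul_zero, map_add, map_add,
        S.ci, S.ci, hx0w, zero_smul, map_smul, S.ci, hx0w, zero_smul, smul_zero, add_zero, add_zero, hx0a, one_smul] at h5
      exact h5.symm
    have hrange : LinearMap.range (ε ∘ₗ S.i w) = LinearMap.range ε := by
      apply Submodule.eq_of_le_of_finrank_le
      · rintro _ ⟨y, rfl⟩
        exact ⟨_, rfl⟩
      · rw [LinearMap.finrank_range_of_inj hinj]
        calc Module.finrank F (LinearMap.range ε) ≤ Module.finrank F (LinearMap.range A) := by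
              apply Submodule.finrank_mono
              rintro _ ⟨y, rfl⟩
              exact ⟨_, rfl⟩
          _ ≤ Module.finrank F W' := LinearMap.finrank_range_le A
    have hcε : ∀ x, S.c w (ε x) = 0 := by
      intro x
      have h5 : ε x ∈ LinearMap.range (ε ∘ₗ S.i w) := by rw [hrange]; exact ⟨x, rfl⟩
      obtain ⟨y, hy⟩ := h5
      rw [← hy]
      exact hN y
    obtain ⟨z, hz⟩ := exists_ne (0 : W')
    have h5 := congrArg (S.c u) (E (S.i x0 z))
    simp only [hcε, S.ci, hx0, zero_smul, map_zero, smul_zero, sub_zero, zero_add, add_zero, huw, S.skew a x0, hx0a,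
      neg_smul, one_smul, map_neg, neg_neg] at h5
    apply hz
    simpa using h5.symm

/-- Two members of `DM M` generating a `p`-group commute. -/
theorem Good.comm_of_pgroup [FiniteDimensional F W] [Nontrivial W'] [FiniteDimensional F W'] [FiniteDimensional F V]
    {p : ℕ} [Fact p.Prime] {M : Subgroup (Module.End F V)ˣ} [Finite M] (hM : S.Good M) (h2 : (2 : F) ≠ 0)
    {x y : (Module.End F V)ˣ} (hx : x ∈ S.DM M) (hy : y ∈ S.DM M)
    (hp : IsPGroup p (closure ({x, y} : Set (Module.End F V)ˣ))) : x * y = y * x := by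
  by_contra hne
  obtain ⟨x', hx', y', hy', hne', c1, c2⟩ := exists_class_two M (S.DM M) (fun _ h => DM_subset hM.tv_mem h)
    (fun _ hg _ h => conj_mem_DM hg h) _ x y hx hy le_rfl hp hne
  obtain ⟨g, hg, w, hw, l, hl, rfl⟩ := hx'
  have hy1 : g⁻¹ * y' * g ∈ S.DM M := by
    have := conj_mem_DM (M.inv_mem hg) hy'
    rwa [inv_inv] at this
  have hy2 : y' = g * (g⁻¹ * y' * g) * g⁻¹ := by group
  generalize g⁻¹ * y' * g = e at hy1 hy2
  subst hy2
  have hcj : ∀ a b : (Module.End F V)ˣ, g * a * g⁻¹ * (g * b * g⁻¹) * (g * a * g⁻¹)⁻¹ * (g * b * g⁻¹)⁻¹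
      = g * (a * b * a⁻¹ * b⁻¹) * g⁻¹ := by
    intro a b
    group
  have hcc : ∀ a b : (Module.End F V)ˣ, Commute (g * a * g⁻¹) (g * b * g⁻¹) → Commute a b := by
    intro a b h
    have h1 : g⁻¹ * (g * a * g⁻¹ * (g * b * g⁻¹)) * g = g⁻¹ * (g * b * g⁻¹ * (g * a * g⁻¹)) * g := by rw [h.eq]
    have h2 : g⁻¹ * (g * a * g⁻¹ * (g * b * g⁻¹)) * g = a * b := by group
    have h3 : g⁻¹ * (g * b * g⁻¹ * (g * a * g⁻¹)) * g = b * a := by group
    rw [h2, h3] at h1
    exact h1
  rw [hcj] at c1 c2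
  apply hne'
  have h5 := hM.class_two_false h2 hw hl hy1 (hcc _ _ c1) (hcc _ _ c2)
  have h6 : ∀ a b : (Module.End F V)ˣ, g * a * g⁻¹ * (g * b * g⁻¹) = g * (a * b) * g⁻¹ := by
    intro a b
    group
  rw [h6, h6, h5]

end Slot

end Cfsg.Agent.H874
end

-- part: H874/SlotOp
section
/-!
# Two-dimensional slots: the algebra `End(W) ⊗ 1` and its commutant

Preparations for the slot lemma with `dim W = 2`.
-/

set_option autoImplicit false
set_option linter.unusedSimpArgs false
set_option linter.unusedVariables false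
set_option linter.unusedSectionVars false

namespace Cfsg.Agent.H874

open Subgroup

namespace Slot

variable {F W W' V : Type*} [Field F] [AddCommGroup W] [Module F W] [AddCommGroup W'] [Module F W']
    [AddCommGroup V] [Module F V] (S : Slot F W W' V)

/-- `X = T ⊗ 1`. -/
def IsOp (X : Module.End F V) : Prop := ∃ T : Module.End F W, ∀ w y, X (S.i w y) = S.i (T w) y

/-- `X = 1 ⊗ Z`. -/
def IsCo (X : Module.End F V) : Prop := ∃ Z : Module.End F W', ∀ w y, X (S.i w y) = S.i w (Z y)

/-- `E a b = i a ∘ c b`. -/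
def E (a b : W) : Module.End F V := S.i a ∘ₗ S.c b

variable {S}

theorem E_apply (a b : W) (x : V) : S.E a b x = S.i a (S.c b x) := rfl

theorem IsOp.E (a b : W) : S.IsOp (S.E a b) := by
  refine ⟨(S.ω b).smulRight a, fun w y => ?_⟩
  rw [E_apply, S.ci, LinearMap.smulRight_apply, map_smul, map_smul, LinearMap.smul_apply]

theorem IsOp.Δ (a : W) : S.IsOp (S.Δ a) := IsOp.E a a

theorem IsOp.add {X Y : Module.End F V} (hX : S.IsOp X) (hY : S.IsOp Y) : S.IsOp (X + Y) := by
  obtain ⟨T, hT⟩ := hX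
  obtain ⟨T', hT'⟩ := hY
  exact ⟨T + T', fun w y => by rw [LinearMap.add_apply, hT, hT', LinearMap.add_apply, map_add, LinearMap.add_apply]⟩

theorem IsOp.smul (l : F) {X : Module.End F V} (hX : S.IsOp X) : S.IsOp (l • X) := by
  obtain ⟨T, hT⟩ := hX
  exact ⟨l • T, fun w y => by rw [LinearMap.smul_apply, hT, LinearMap.smul_apply, map_smul, LinearMap.smul_apply]⟩

theorem IsOp.sub {X Y : Module.End F V} (hX : S.IsOp X) (hY : S.IsOp Y) : S.IsOp (X - Y) := by
  have h := hX.add (hY.smul (-1))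
  rwa [neg_smul, one_smul, ← sub_eq_add_neg] at h

theorem IsOp.mul {X Y : Module.End F V} (hX : S.IsOp X) (hY : S.IsOp Y) : S.IsOp (X * Y) := by
  obtain ⟨T, hT⟩ := hX
  obtain ⟨T', hT'⟩ := hY
  exact ⟨T * T', fun w y => by rw [Module.End.mul_apply, hT', hT, Module.End.mul_apply]⟩

theorem IsOp.one : S.IsOp 1 := ⟨1, fun w y => rfl⟩

theorem IsCo.add {X Y : Module.End F V} (hX : S.IsCo X) (hY : S.IsCo Y) : S.IsCo (X + Y) := by
  obtain ⟨T, hT⟩ := hX
  obtain ⟨T', hT'⟩ := hY
  exact ⟨T + T', fun w y => by rw [LinearMap.add_apply, hT, hT', LinearMap.add_apply, map_add]⟩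

theorem IsCo.zero : S.IsCo 0 := ⟨0, fun w y => by rw [LinearMap.zero_apply, LinearMap.zero_apply, map_zero]⟩

theorem IsOp.comm {X Y : Module.End F V} (hX : S.IsOp X) (hY : S.IsCo Y) : X * Y = Y * X := by
  obtain ⟨T, hT⟩ := hX
  obtain ⟨Z, hZ⟩ := hY
  refine S.ext_i fun w y => ?_
  rw [Module.End.mul_apply, Module.End.mul_apply, hZ, hT, hT, hZ]

theorem IsOp.tv (w : W) (l : F) : S.IsOp ((S.tv w l : (Module.End F V)ˣ) : Module.End F V) := by
  rw [S.coe_tv]
  exact IsOp.one.add ((IsOp.Δ w).smul l)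

theorem IsOp.tv_inv (w : W) (l : F) : S.IsOp (((S.tv w l)⁻¹ : (Module.End F V)ˣ) : Module.End F V) := by
  rw [S.coe_tv_inv]
  exact IsOp.one.sub ((IsOp.Δ w).smul l)

section Two

variable {w u : W} (hwu : S.ω w u = 1) (hW : ∀ x, x = S.ω w x • u - S.ω u x • w)

include hwu

theorem wu_ne : w ≠ 0 := by
  rintro rfl
  rw [map_zero, LinearMap.zero_apply] at hwu
  exact zero_ne_one hwu

theorem huw' : S.ω u w = -1 := by rw [S.skew, hwu]

include hW

/-- The decomposition of a vector. -/
theorem decomp (v : V) : v = S.i u (S.c w v) - S.i w (S.c u v) := by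
  have huw := huw' hwu
  refine S.ext_c fun x => ?_
  nth_rewrite 2 [hW x]
  nth_rewrite 1 [hW x]
  simp only [map_sub, map_smul, LinearMap.sub_apply, LinearMap.smul_apply, S.ci, S.alt, hwu, huw, zero_smul, one_smul,
    neg_smul, smul_neg, smul_zero, sub_zero, zero_sub, smul_sub, smul_smul, smul_eq_mul, sub_smul, mul_zero, mul_one,
    mul_neg, neg_neg]
  abel

theorem eq_op {X : Module.End F V} (hX : S.IsOp X) :
    ∃ α β γ κ : F, X = α • S.E w w + β • S.E w u + γ • S.E u w + κ • S.E u u := by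
  have huw := huw' hwu
  obtain ⟨T, hT⟩ := hX
  -- `T w = - β w - κ u`, `T u = α w + γ u`
  refine ⟨- S.ω u (T u), S.ω u (T w), S.ω w (T u), - S.ω w (T w), ?_⟩
  ext x
  have h1 := decomp hwu hW x
  rw [h1]
  generalize S.c w x = y1
  generalize S.c u x = y2
  simp only [LinearMap.add_apply, LinearMap.smul_apply, LinearMap.neg_apply, E_apply, map_sub, hT, S.ci, S.alt, hwu,
    huw, zero_smul, one_smul, neg_smul, map_zero, map_neg, smul_zero, sub_zero, zero_sub, smul_neg, neg_neg, add_zero,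
    zero_add, smul_sub]
  rw [hW (T u), hW (T w)]
  simp only [map_sub, map_smul, LinearMap.sub_apply, LinearMap.smul_apply, S.alt, hwu, huw, smul_eq_mul, mul_one,
    mul_zero, sub_zero, zero_sub, mul_neg, neg_neg]
  abel

theorem isCo_one (Z : Module.End F W') : S.IsCo (S.i u ∘ₗ Z ∘ₗ S.c w - S.i w ∘ₗ Z ∘ₗ S.c u) := by
  refine ⟨Z, fun x y => ?_⟩
  simp only [LinearMap.sub_apply, LinearMap.comp_apply, S.ci, map_smul]
  nth_rewrite 3 [hW x]
  rw [map_sub, map_smul, map_smul, LinearMap.sub_apply, LinearMap.smul_apply, LinearMap.smul_apply]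

theorem ext_wu {X Y : Module.End F V} (h1 : ∀ y, X (S.i w y) = Y (S.i w y)) (h2 : ∀ y, X (S.i u y) = Y (S.i u y)) :
    X = Y := by
  refine S.ext_i fun x y => ?_
  rw [hW x, map_sub, map_smul, map_smul, LinearMap.sub_apply, LinearMap.smul_apply, LinearMap.smul_apply, map_sub,
    map_sub, map_smul, map_smul, map_smul, map_smul, h1, h2]

/-- The commutant of the slot. -/
theorem isCo_of_comm {X : Module.End F V} (h1 : X * S.Δ w = S.Δ w * X) (h2 : X * S.Δ u = S.Δ u * X) : S.IsCo X := by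
  have huw := huw' hwu
  have h1' : ∀ x, X (S.i w (S.c w x)) = S.i w (S.c w (X x)) := fun x => LinearMap.congr_fun h1 x
  have h2' : ∀ x, X (S.i u (S.c u x)) = S.i u (S.c u (X x)) := fun x => LinearMap.congr_fun h2 x
  have hw0 := wu_ne hwu
  let ζ : Module.End F W' := S.c w ∘ₗ X ∘ₗ S.i u
  have a1 : ∀ y, X (S.i w y) = S.i w (ζ y) := by
    intro y
    have h3 := h1' (S.i u y)
    rwa [S.ci, hwu, one_smul] at h3
  have a2 : ∀ y, X (S.i u y) = S.i u (ζ y) := by
    intro y
    have h3 := h2' (S.i w y)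
    rw [S.ci, huw, neg_smul, one_smul, map_neg, map_neg, neg_eq_iff_eq_neg, a1, S.ci, huw, neg_smul, one_smul, map_neg,
      neg_neg] at h3
    exact h3
  have h3 : X = S.i u ∘ₗ ζ ∘ₗ S.c w - S.i w ∘ₗ ζ ∘ₗ S.c u := by
    refine ext_wu hwu hW (fun y => ?_) (fun y => ?_)
    · rw [a1]
      simp only [LinearMap.sub_apply, LinearMap.comp_apply, S.ci, S.alt, huw, zero_smul, map_zero, neg_smul, one_smul,
        map_neg, zero_sub, neg_neg]
    · rw [a2]
      simp only [LinearMap.sub_apply, LinearMap.comp_apply, S.ci, S.alt, hwu, zero_smul, map_zero, neg_smul, one_smul,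
        map_neg, sub_zero, neg_neg]
  rw [h3]
  exact isCo_one hwu hW ζ

/-- A square-zero element of `A + C(A)` is in `A` or in `C(A)`. -/
theorem op_or_co [Nontrivial W'] (h2 : (2 : F) ≠ 0) {a y : Module.End F V} (ha : S.IsOp a) (hy : S.IsCo y)
    (hsq : (a + y) * (a + y) = 0) : S.IsOp (a + y) ∨ S.IsCo (a + y) := by
  have huw := huw' hwu
  have hw0 := wu_ne hwu
  have hsq' : ∀ x, (a + y) ((a + y) x) = 0 := fun x => LinearMap.congr_fun hsq x
  obtain ⟨α, β, γ, κ, rfl⟩ := eq_op hwu hW ha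
  obtain ⟨Z, hZ⟩ := hy
  -- the action on `w ⊗ y` and `u ⊗ y`
  have e1 : ∀ t, (α • S.E w w + β • S.E w u + γ • S.E u w + κ • S.E u u + y) (S.i w t)
      = S.i w (Z t - β • t) - κ • S.i u t := by
    intro t
    simp only [LinearMap.add_apply, LinearMap.smul_apply, E_apply, S.ci, S.alt, huw, hZ, zero_smul, map_zero, smul_zero,
      neg_smul, one_smul, map_neg, smul_neg, map_sub, map_smul]
    abel
  have e2 : ∀ t, (α • S.E w w + β • S.E w u + γ • S.E u w + κ • S.E u u + y) (S.i u t)
      = α • S.i w t + S.i u (Z t + γ • t) := by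
    intro t
    simp only [LinearMap.add_apply, LinearMap.smul_apply, E_apply, S.ci, S.alt, hwu, hZ, zero_smul, map_zero, smul_zero,
      neg_smul, one_smul, map_neg, smul_neg, map_add, map_smul]
    abel
  generalize hX : α • S.E w w + β • S.E w u + γ • S.E u w + κ • S.E u u + y = X at e1 e2 hsq'
  -- `c` of the squares
  have f1 : ∀ t, κ • (Z t + Z t + (γ - β) • t) = 0 := by
    intro t
    have h3 := congrArg (S.c w) (hsq' (S.i w t))
    rw [e1, map_sub, map_smul, e1, e2] at h3
    simp only [map_sub, map_add, map_smul, S.ci, S.alt, hwu, zero_smul, one_smul, smul_zero, map_zero, zero_sub,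
      sub_zero, zero_add, smul_add, smul_sub, sub_smul] at h3 ⊢
    rw [← neg_eq_zero, ← h3]
    abel
  have f2 : ∀ t, α • (Z t + Z t + (γ - β) • t) = 0 := by
    intro t
    have h3 := congrArg (S.c u) (hsq' (S.i u t))
    rw [e2, map_add, map_smul, e1, e2] at h3
    simp only [map_sub, map_add, map_smul, S.ci, S.alt, huw, zero_smul, one_smul, smul_zero, map_zero, zero_sub,
      sub_zero, zero_add, smul_add, smul_sub, sub_smul, neg_smul, smul_neg, add_zero] at h3 ⊢
    rw [← neg_eq_zero, ← h3]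
    abel
  have f3 : ∀ t, (γ + β) • (Z t + Z t + (γ - β) • t) = 0 := by
    intro t
    have h3 := congrArg (S.c u) (hsq' (S.i w t))
    have h4 := congrArg (S.c w) (hsq' (S.i u t))
    rw [e1, map_sub, map_smul, e1, e2] at h3
    rw [e2, map_add, map_smul, e1, e2] at h4
    simp only [map_sub, map_add, map_smul, S.ci, S.alt, huw, hwu, zero_smul, one_smul, smul_zero, map_zero, zero_sub,
      sub_zero, zero_add, smul_add, smul_sub, sub_smul, neg_smul, smul_neg, add_zero, smul_smul] at h3 h4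
    simp only [smul_add, smul_sub, sub_smul, add_smul, smul_smul, mul_add, mul_sub, add_mul]
    have h5 := congrArg₂ (fun a b => a + b) h3 h4
    simp only [add_zero] at h5
    rw [← h5]
    simp only [mul_comm]
    abel
  by_cases hz : ∀ t, Z t + Z t + (γ - β) • t = 0
  · left
    have h5 : ∀ t, Z t = (2⁻¹ * (β - γ)) • t := by
      intro t
      have h6 := hz t
      rw [← two_smul F (Z t), add_eq_zero_iff_eq_neg, ← neg_smul, neg_sub] at h6
      rw [← smul_smul, ← h6, smul_smul, inv_mul_cancel₀ h2, one_smul]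
    rw [← hX]
    refine IsOp.add ha ⟨(2⁻¹ * (β - γ)) • 1, fun x t => ?_⟩
    rw [hZ, h5, map_smul, LinearMap.smul_apply, Module.End.one_apply, map_smul, LinearMap.smul_apply]
  · right
    push Not at hz
    obtain ⟨t, ht⟩ := hz
    have hκ : κ = 0 := (smul_eq_zero.1 (f1 t)).resolve_right ht
    have hα : α = 0 := (smul_eq_zero.1 (f2 t)).resolve_right ht
    have hγ : γ + β = 0 := (smul_eq_zero.1 (f3 t)).resolve_right ht
    have hγ' : γ = -β := eq_neg_of_add_eq_zero_left hγ
    have h6 : X = S.i u ∘ₗ (Z - β • 1) ∘ₗ S.c w - S.i w ∘ₗ (Z - β • 1) ∘ₗ S.c u := by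
      refine ext_wu hwu hW (fun y => ?_) (fun y => ?_)
      · rw [e1, hκ]
        simp only [LinearMap.sub_apply, LinearMap.comp_apply, S.ci, S.alt, huw, zero_smul, map_zero, neg_smul, one_smul,
          map_neg, zero_sub, neg_neg, sub_zero, LinearMap.smul_apply, Module.End.one_apply]
      · rw [e2, hα, hγ']
        simp only [LinearMap.sub_apply, LinearMap.comp_apply, S.ci, S.alt, hwu, zero_smul, map_zero, neg_smul, one_smul,
          map_neg, sub_zero, neg_neg, LinearMap.smul_apply, Module.End.one_apply, zero_add, map_add, map_sub, map_smul]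
        abel
    rw [h6]
    exact isCo_one hwu hW _

/-- A square-zero element of `A` is a multiple of some `Δ b`. -/
theorem op_sq_zero {X : Module.End F V} [Nontrivial W'] (hX : S.IsOp X) (hsq : X * X = 0) :
    ∃ (b : W) (μ : F), b ≠ 0 ∧ X = μ • S.Δ b := by
  have huw := huw' hwu
  have hw0 := wu_ne hwu
  have hu0 : u ≠ 0 := by
    rintro rfl
    rw [map_zero] at hwu
    exact zero_ne_one hwu
  obtain ⟨α, β, γ, κ, rfl⟩ := eq_op hwu hW hX
  obtain ⟨t, ht⟩ := exists_ne (0 : W')
  have e1 : ∀ t, (α • S.E w w + β • S.E w u + γ • S.E u w + κ • S.E u u) (S.i w t)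
      = - (β • S.i w t) - κ • S.i u t := by
    intro t
    simp only [LinearMap.add_apply, LinearMap.smul_apply, E_apply, S.ci, S.alt, huw, zero_smul, map_zero, smul_zero,
      neg_smul, one_smul, map_neg, smul_neg, map_sub, map_smul]
    abel
  have e2 : ∀ t, (α • S.E w w + β • S.E w u + γ • S.E u w + κ • S.E u u) (S.i u t)
      = α • S.i w t + γ • S.i u t := by
    intro t
    simp only [LinearMap.add_apply, LinearMap.smul_apply, E_apply, S.ci, S.alt, hwu, zero_smul, map_zero, smul_zero,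
      neg_smul, one_smul, map_neg, smul_neg, map_add, map_smul]
    abel
  have hsq' : ∀ x, (α • S.E w w + β • S.E w u + γ • S.E u w + κ • S.E u u)
      ((α • S.E w w + β • S.E w u + γ • S.E u w + κ • S.E u u) x) = 0 := fun x => LinearMap.congr_fun hsq x
  have hc : ∀ (a b : F), a • t = b • t → a = b := by
    intro a b h
    rw [← sub_eq_zero, ← sub_smul] at h
    exact sub_eq_zero.1 ((smul_eq_zero.1 h).resolve_right ht)
  have g1 : κ * β = κ * γ := by
    have h3 := congrArg (S.c w) (hsq' (S.i w t))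
    rw [e1, map_sub, map_neg, map_smul, map_smul, e1, e2] at h3
    simp only [map_sub, map_add, map_smul, map_neg, S.ci, S.alt, hwu, zero_smul, one_smul, smul_zero, map_zero, zero_sub,
      sub_zero, zero_add, smul_add, smul_sub, sub_smul, smul_smul, neg_zero, smul_neg, neg_neg] at h3
    apply hc
    rw [← sub_eq_zero, mul_comm]
    exact h3
  have g2 : α * β = α * γ := by
    have h3 := congrArg (S.c u) (hsq' (S.i u t))
    rw [e2, map_add, map_smul, map_smul, e1, e2] at h3
    simp only [map_sub, map_add, map_smul, map_neg, S.ci, S.alt, huw, zero_smul, one_smul, smul_zero, map_zero, zero_sub,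
      sub_zero, zero_add, smul_add, smul_sub, sub_smul, smul_smul, neg_zero, smul_neg, neg_neg, neg_smul, add_zero] at h3
    apply hc
    rw [← sub_eq_zero, mul_comm α γ, sub_eq_add_neg]
    exact h3
  have g3 : β * β = κ * α := by
    have h3 := congrArg (S.c u) (hsq' (S.i w t))
    rw [e1, map_sub, map_neg, map_smul, map_smul, e1, e2] at h3
    simp only [map_sub, map_add, map_smul, map_neg, S.ci, S.alt, huw, zero_smul, one_smul, smul_zero, map_zero, zero_sub,
      sub_zero, zero_add, smul_add, smul_sub, sub_smul, smul_smul, neg_zero, smul_neg, neg_neg, neg_smul, add_zero] at h3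
    apply hc
    rw [← sub_eq_zero, ← neg_eq_zero, ← h3]
    abel
  have g4 : γ * γ = κ * α := by
    have h3 := congrArg (S.c w) (hsq' (S.i u t))
    rw [e2, map_add, map_smul, map_smul, e1, e2] at h3
    simp only [map_sub, map_add, map_smul, map_neg, S.ci, S.alt, hwu, zero_smul, one_smul, smul_zero, map_zero, zero_sub,
      sub_zero, zero_add, smul_add, smul_sub, sub_smul, smul_smul, neg_zero, smul_neg, neg_neg, neg_smul, add_zero] at h3
    apply hc
    rw [← sub_eq_zero, ← h3, mul_comm κ α]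
    abel
  by_cases hα : α = 0
  · subst hα
    rw [mul_zero] at g3 g4
    have hβ := mul_self_eq_zero.1 g3
    have hγ := mul_self_eq_zero.1 g4
    subst hβ
    subst hγ
    exact ⟨u, κ, hu0, by rw [zero_smul, zero_smul, zero_smul, zero_add, zero_add, zero_add]; rfl⟩
  · have hβγ : β = γ := mul_left_cancel₀ hα g2
    subst hβγ
    refine ⟨w + (β * α⁻¹) • u, α, ?_, ?_⟩
    · intro h
      have h5 : S.ω (w + (β * α⁻¹) • u) u = 0 := by rw [h, map_zero, LinearMap.zero_apply]
      rw [map_add, LinearMap.add_apply, hwu, map_smul, LinearMap.smul_apply, S.alt, smul_zero, add_zero] at h5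
      exact one_ne_zero h5
    · have hκ : κ = β * β * α⁻¹ := by rw [g3, mul_assoc, mul_inv_cancel₀ hα, mul_one]
      ext x
      simp only [LinearMap.add_apply, LinearMap.smul_apply, E_apply, S.Δ_apply, map_add, map_smul, smul_add, smul_smul]
      rw [hκ]
      have h6 : α * (β * α⁻¹) = β := by field_simp
      have h7 : α * (β * α⁻¹ * (β * α⁻¹)) = β * β * α⁻¹ := by field_simp
      rw [h6, h7]
      abel

/-- A square-zero `ε` such that `1 + ε` normalises `A` is in `A` or in `C(A)`. -/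
theorem norm_sq_zero [Nontrivial W'] (h2 : (2 : F) ≠ 0) {ε : Module.End F V} (hsq : ε * ε = 0)
    (h3 : ∀ X, S.IsOp X → S.IsOp ((1 + ε) * X * (1 - ε))) (h4 : ∀ X, S.IsOp X → S.IsOp ((1 - ε) * X * (1 + ε))) :
    S.IsOp ε ∨ S.IsCo ε := by
  have huw := huw' hwu
  have hc : ∀ X, S.IsOp X → S.IsOp (X * ε - ε * X) := by
    intro X hX
    have h5 := ((h4 X hX).sub (h3 X hX)).smul (2⁻¹ : F)
    have h6 : (2⁻¹ : F) • ((1 - ε) * X * (1 + ε) - (1 + ε) * X * (1 - ε)) = X * ε - ε * X := by
      have h7 : (1 - ε) * X * (1 + ε) - (1 + ε) * X * (1 - ε) = (2 : F) • (X * ε - ε * X) := by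
        rw [two_smul]
        noncomm_ring
      rw [h7, smul_smul, inv_mul_cancel₀ h2, one_smul]
    rwa [h6] at h5
  let ζ : Module.End F W' := S.c w ∘ₗ ε ∘ₗ S.i u
  have hy := isCo_one hwu hW ζ
  have h7 : ε = (S.E u w * (S.E u w * ε - ε * S.E u w) - S.E w w * (S.E u u * ε - ε * S.E u u))
      + (S.i u ∘ₗ ζ ∘ₗ S.c w - S.i w ∘ₗ ζ ∘ₗ S.c u) := by
    ext x
    simp only [LinearMap.add_apply, LinearMap.sub_apply, Module.End.mul_apply, E_apply, map_sub, S.ci, hwu, huw, S.alt,
      one_smul, LinearMap.comp_apply, ζ, zero_smul, map_zero, neg_smul, map_neg, sub_neg_eq_add]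
    nth_rewrite 1 [decomp hwu hW (ε x)]
    abel
  have hop : S.IsOp (S.E u w * (S.E u w * ε - ε * S.E u w) - S.E w w * (S.E u u * ε - ε * S.E u u)) :=
    ((IsOp.E u w).mul (hc _ (IsOp.E u w))).sub ((IsOp.E w w).mul (hc _ (IsOp.E u u)))
  rw [h7] at hsq ⊢
  exact op_or_co hwu hW h2 hop hy hsq

end Two

end Slot

end Cfsg.Agent.H874
end
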