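import Cfsg.Agent.H889.TensorPow
import Cfsg.Agent.H874.SlotOp
set_option linter.all false

-- part: H874/TenSlot
section
/-!
# The slots of a tensor power

`tslot ω hω hn j` : the `j`-th slot of `(F ^ k) ^ (⊗ t)` in the coordinates `(Fin t → Fin k) → F` as a `Slot`.
`PM A` : the endomorphism `⊗ A i`. `sl j B` : `B` in the `j`-th slot.
-/

set_option autoImplicit false
set_option linter.unusedSimpArgs false
set_option linter.unusedVariables false
set_option linter.unusedSectionVars false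

namespace Cfsg.Agent.H874

open Matrix Cfsg.Agent.H889

variable {F : Type*} [Field F] {k t : ℕ}

/-- Insert `p` at position `j`. -/
def ins (j : Fin t) (p : Fin k) (b : {i : Fin t // i ≠ j} → Fin k) : Fin t → Fin k :=
  fun i => if h : i = j then p else b ⟨i, h⟩

/-- Forget position `j`. -/
def res (j : Fin t) (a : Fin t → Fin k) : {i : Fin t // i ≠ j} → Fin k := fun i => a i

theorem ins_self (j : Fin t) (p : Fin k) (b : {i : Fin t // i ≠ j} → Fin k) : ins j p b j = p := by
  simp [ins]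

theorem res_ins (j : Fin t) (p : Fin k) (b : {i : Fin t // i ≠ j} → Fin k) : res j (ins j p b) = b := by
  funext i
  simp [res, ins, i.2]

theorem ins_res (j : Fin t) (p : Fin k) (a : Fin t → Fin k) : ins j p (res j a) = Function.update a j p := by
  funext i
  by_cases h : i = j
  · subst h; simp [ins]
  · simp [ins, res, h]

theorem ins_res_self (j : Fin t) (a : Fin t → Fin k) : ins j (a j) (res j a) = a := by
  rw [ins_res, Function.update_eq_self]

/-- The functional `ω w`, in coordinates. -/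
theorem omega_eq_sum (ω : (Fin k → F) →ₗ[F] (Fin k → F) →ₗ[F] F) (w x : Fin k → F) :
    ω w x = ∑ p, ω w (Pi.single p 1) * x p := by
  conv_lhs => rw [pi_eq_sum_univ' x]
  rw [map_sum]
  refine Finset.sum_congr rfl fun p _ => ?_
  rw [map_smul, smul_eq_mul, mul_comm]

/-- The `j`-th slot. -/
def tslot (ω : (Fin k → F) →ₗ[F] (Fin k → F) →ₗ[F] F) (hω : ∀ w, ω w w = 0)
    (hn : ∀ w, (∀ x, ω w x = 0) → w = 0) (j : Fin t) :
    Slot F (Fin k → F) (({i : Fin t // i ≠ j} → Fin k) → F) ((Fin t → Fin k) → F) where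
  ω := ω
  alt := hω
  nondeg := hn
  i := LinearMap.mk₂ F (fun w y a => w (a j) * y (res j a))
    (fun w w' y => by funext a; simp only [Pi.add_apply, add_mul])
    (fun l w y => by funext a; simp only [Pi.smul_apply, smul_eq_mul, mul_assoc])
    (fun w y y' => by funext a; simp only [Pi.add_apply, mul_add])
    (fun l w y => by funext a; simp only [Pi.smul_apply, smul_eq_mul]; ring)
  c := LinearMap.mk₂ F (fun w x b => ∑ p, ω w (Pi.single p 1) * x (ins j p b))
    (fun w w' x => by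
      funext b
      simp only [Pi.add_apply, map_add, LinearMap.add_apply, add_mul, Finset.sum_add_distrib])
    (fun l w x => by
      funext b
      simp only [Pi.smul_apply, map_smul, LinearMap.smul_apply, smul_eq_mul, Finset.mul_sum, mul_assoc])
    (fun w x x' => by funext b; simp only [Pi.add_apply, mul_add, Finset.sum_add_distrib])
    (fun l w x => by
      funext b
      simp only [Pi.smul_apply, smul_eq_mul, Finset.mul_sum]
      exact Finset.sum_congr rfl fun p _ => by ring)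
  ci := by
    intro w x y
    funext b
    simp only [LinearMap.mk₂_apply, ins_self, res_ins, Pi.smul_apply, smul_eq_mul]
    rw [omega_eq_sum ω w x, Finset.sum_mul]
    exact Finset.sum_congr rfl fun p _ => by ring
  c_inj := by
    intro v hv
    funext a
    -- the functional `coordinate a j` is `ω w` for some `w`
    have hsurj : Function.Surjective (ω : (Fin k → F) →ₗ[F] Module.Dual F (Fin k → F)) := by
      refine (LinearMap.injective_iff_surjective_of_finrank_eq_finrank
        (Subspace.dual_finrank_eq (K := F) (V := Fin k → F)).symm).1 ?_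
      rw [injective_iff_map_eq_zero]
      intro w hw
      exact hn w fun x => by rw [hw, LinearMap.zero_apply]
    obtain ⟨w, hw⟩ := hsurj (LinearMap.proj (a j))
    have h1 := congrFun (hv w) (res j a)
    simp only [LinearMap.mk₂_apply, Pi.zero_apply] at h1
    rw [Finset.sum_eq_single (a j)] at h1
    · rw [hw, LinearMap.proj_apply, Pi.single_eq_same, one_mul, ins_res_self] at h1
      rw [h1, Pi.zero_apply]
    · intro p _ hp
      rw [hw, LinearMap.proj_apply, Pi.single_eq_of_ne (Ne.symm hp), zero_mul]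
    · intro h
      exact absurd (Finset.mem_univ _) h
  i_span := by
    intro v
    have h1 : v = ∑ p, (fun a : Fin t → Fin k => (Pi.single p (1 : F) : Fin k → F) (a j) * v (ins j p (res j a))) := by
      funext a
      rw [Finset.sum_apply, Finset.sum_eq_single (a j)]
      · rw [Pi.single_eq_same, one_mul, ins_res_self]
      · intro p _ hp
        rw [Pi.single_eq_of_ne (Ne.symm hp), zero_mul]
      · intro h
        exact absurd (Finset.mem_univ _) h
    rw [h1]
    refine Submodule.sum_mem _ fun p _ => Submodule.subset_span ⟨Pi.single p 1, fun b => v (ins j p b), ?_⟩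
    funext a
    rfl

/-- The endomorphism `⊗ A i`. -/
def PM (A : Fin t → Matrix (Fin k) (Fin k) F) : Module.End F ((Fin t → Fin k) → F) := Matrix.toLin' (pm A)

theorem PM_apply (A : Fin t → Matrix (Fin k) (Fin k) F) (x : (Fin t → Fin k) → F) : PM A x = pm A *ᵥ x := rfl

theorem PM_tp (A : Fin t → Matrix (Fin k) (Fin k) F) (xs : Fin t → (Fin k → F)) :
    PM A (tp xs) = tp fun i => A i *ᵥ xs i := by rw [PM_apply, pm_mulVec]

theorem PM_mul (A B : Fin t → Matrix (Fin k) (Fin k) F) : PM A * PM B = PM fun i => A i * B i := by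
  rw [PM, PM, PM, Module.End.mul_eq_comp, ← Matrix.toLin'_mul, pm_mul]

theorem PM_one : PM (fun _ : Fin t => (1 : Matrix (Fin k) (Fin k) F)) = 1 := by
  rw [PM, pm_one, Matrix.toLin'_one]
  rfl

/-- Endomorphisms agreeing on the pure tensors are equal. -/
theorem end_ext_tp {X Y : Module.End F ((Fin t → Fin k) → F)} (h : ∀ xs : Fin t → (Fin k → F), X (tp xs) = Y (tp xs)) :
    X = Y := by
  refine (Pi.basisFun F (Fin t → Fin k)).ext fun b => ?_
  rw [Pi.basisFun_apply, single_eq_tp]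
  exact h _

/-- `B` in the `j`-th slot. -/
def sl (j : Fin t) (B : Matrix (Fin k) (Fin k) F) : Module.End F ((Fin t → Fin k) → F) :=
  PM (Function.update (fun _ => 1) j B)

theorem sl_eq (j : Fin t) (B : Matrix (Fin k) (Fin k) F) : sl j B = Matrix.toLin' (slot j B) := rfl

theorem sl_tp (j : Fin t) (B : Matrix (Fin k) (Fin k) F) (xs : Fin t → (Fin k → F)) :
    sl j B (tp xs) = tp (Function.update xs j (B *ᵥ xs j)) := by
  rw [sl_eq, Matrix.toLin'_apply, slot_mulVec_tp]

theorem sl_add (j : Fin t) (A B : Matrix (Fin k) (Fin k) F) : sl j (A + B) = sl j A + sl j B := by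
  rw [sl_eq, sl_eq, sl_eq, slot_add, map_add]

theorem sl_smul (j : Fin t) (c : F) (A : Matrix (Fin k) (Fin k) F) : sl j (c • A) = c • sl j A := by
  rw [sl_eq, sl_eq, slot_smul, map_smul]

theorem sl_one (j : Fin t) : sl j (1 : Matrix (Fin k) (Fin k) F) = 1 := by
  rw [sl, Function.update_eq_self, PM_one]

theorem sl_zero (j : Fin t) : sl j (0 : Matrix (Fin k) (Fin k) F) = 0 := by
  have h := sl_smul j (0 : F) (0 : Matrix (Fin k) (Fin k) F)
  rwa [zero_smul, zero_smul] at h

theorem sl_mul (j : Fin t) (A B : Matrix (Fin k) (Fin k) F) : sl j A * sl j B = sl j (A * B) := by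
  rw [sl_eq, sl_eq, sl_eq, Module.End.mul_eq_comp, ← Matrix.toLin'_mul, slot_mul]

theorem sl_comm {i j : Fin t} (hij : i ≠ j) (A B : Matrix (Fin k) (Fin k) F) : sl i A * sl j B = sl j B * sl i A := by
  rw [sl_eq, sl_eq, Module.End.mul_eq_comp, Module.End.mul_eq_comp, ← Matrix.toLin'_mul, ← Matrix.toLin'_mul,
    slot_comm hij]

/-- `tp` with a prescribed `j`-th factor. -/
theorem tp_ins (ω : (Fin k → F) →ₗ[F] (Fin k → F) →ₗ[F] F) (hω : ∀ w, ω w w = 0)
    (hn : ∀ w, (∀ x, ω w x = 0) → w = 0) (j : Fin t) (xs : Fin t → (Fin k → F)) :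
    tp xs = (tslot ω hω hn j).i (xs j) (fun b => ∏ i, xs i.1 (b i)) := by
  funext a
  show ∏ i, xs i (a i) = xs j (a j) * ∏ i : {i : Fin t // i ≠ j}, xs i.1 (a i.1)
  rw [← Finset.mul_prod_erase Finset.univ _ (Finset.mem_univ j)]
  congr 1
  refine Finset.prod_bij' (fun i hi => ⟨i, (Finset.mem_erase.1 hi).1⟩) (fun i _ => i.1) ?_ ?_ ?_ ?_ ?_
  · intro i _; exact Finset.mem_univ _
  · intro i _; exact Finset.mem_erase.2 ⟨i.2, Finset.mem_univ _⟩
  · intro i _; rfl
  · intro i _; rfl
  · intro i _; rfl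

section Slots

variable (ω : (Fin k → F) →ₗ[F] (Fin k → F) →ₗ[F] F) (hω : ∀ w, ω w w = 0)
    (hn : ∀ w, (∀ x, ω w x = 0) → w = 0)

theorem tslot_ω (j : Fin t) : (tslot ω hω hn j).ω = ω := rfl

theorem tslot_i_apply (j : Fin t) (w : Fin k → F) (y : ({i : Fin t // i ≠ j} → Fin k) → F) (a : Fin t → Fin k) :
    (tslot ω hω hn j).i w y a = w (a j) * y (res j a) := rfl

theorem tslot_c_apply (j : Fin t) (w : Fin k → F) (x : (Fin t → Fin k) → F) (b : {i : Fin t // i ≠ j} → Fin k) :
    (tslot ω hω hn j).c w x b = ∑ p, ω w (Pi.single p 1) * x (ins j p b) := rfl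

/-- The matrix of `x ↦ ω b x • a`. -/
def eM (a b : Fin k → F) : Matrix (Fin k) (Fin k) F := fun p q => a p * ω b (Pi.single q 1)

theorem eM_mulVec (a b x : Fin k → F) : eM ω a b *ᵥ x = ω b x • a := by
  funext p
  rw [omega_eq_sum ω b x]
  simp only [Matrix.mulVec, dotProduct, eM, Pi.smul_apply, smul_eq_mul, Finset.sum_mul]
  exact Finset.sum_congr rfl fun q _ => by ring

theorem mat_ext {A B : Matrix (Fin k) (Fin k) F} (h : ∀ x, A *ᵥ x = B *ᵥ x) : A = B := by
  ext p q
  have h1 := congrFun (h (Pi.single q 1)) p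
  rwa [Matrix.mulVec_single_one, Matrix.mulVec_single_one] at h1

theorem eM_mul (a b c d : Fin k → F) : eM ω a b * eM ω c d = ω b c • eM ω a d := by
  refine mat_ext fun x => ?_
  rw [← Matrix.mulVec_mulVec, eM_mulVec, eM_mulVec, map_smul, smul_eq_mul, Matrix.smul_mulVec, eM_mulVec, smul_smul,
    mul_comm]

theorem mul_eM (A : Matrix (Fin k) (Fin k) F) (a b : Fin k → F) : A * eM ω a b = eM ω (A *ᵥ a) b := by
  refine mat_ext fun x => ?_
  rw [← Matrix.mulVec_mulVec, eM_mulVec, Matrix.mulVec_smul, eM_mulVec]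

theorem E_eq_sl (j : Fin t) (a b : Fin k → F) : (tslot ω hω hn j).E a b = sl j (eM ω a b) := by
  refine end_ext_tp fun xs => ?_
  rw [sl_tp, eM_mulVec, Slot.E_apply, tp_ins ω hω hn j xs, Slot.ci,
    tp_ins ω hω hn j (Function.update xs j ((ω b) (xs j) • a)), Function.update_self, map_smul, map_smul,
    LinearMap.smul_apply, tslot_ω]
  congr 2
  funext c
  refine Finset.prod_congr rfl fun i _ => ?_
  rw [Function.update_of_ne i.2]

theorem Δ_eq_sl (j : Fin t) (a : Fin k → F) : (tslot ω hω hn j).Δ a = sl j (eM ω a a) := E_eq_sl ω hω hn j a a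

/-- The action of a slot matrix in coordinates. -/
theorem sl_apply (i : Fin t) (B : Matrix (Fin k) (Fin k) F) (x : (Fin t → Fin k) → F) (a : Fin t → Fin k) :
    sl i B x a = ∑ p, B (a i) p * x (Function.update a i p) := by
  have h : sl i B = (⟨⟨fun x a => ∑ p, B (a i) p * x (Function.update a i p), fun x y => by
      funext a
      simp only [Pi.add_apply, mul_add, Finset.sum_add_distrib]⟩, fun c x => by
      funext a
      simp only [Pi.smul_apply, smul_eq_mul, Finset.mul_sum, RingHom.id_apply]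
      exact Finset.sum_congr rfl fun p _ => by ring⟩ : Module.End F ((Fin t → Fin k) → F)) := by
    refine end_ext_tp fun xs => ?_
    rw [sl_tp]
    funext a
    show tp (Function.update xs i (B *ᵥ xs i)) a = ∑ p, B (a i) p * tp xs (Function.update a i p)
    have h1 : ∀ (z : Fin k → F) (a : Fin t → Fin k), tp (Function.update xs i z) a
        = z (a i) * ∏ j ∈ Finset.univ.erase i, xs j (a j) := by
      intro z a
      rw [tp_apply, ← Finset.mul_prod_erase Finset.univ _ (Finset.mem_univ i), Function.update_self]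
      congr 1
      refine Finset.prod_congr rfl fun j hj => ?_
      rw [Function.update_of_ne (Finset.ne_of_mem_erase hj)]
    rw [h1, Matrix.mulVec, dotProduct, Finset.sum_mul]
    refine Finset.sum_congr rfl fun p _ => ?_
    have h2 : tp xs (Function.update a i p) = xs i p * ∏ j ∈ Finset.univ.erase i, xs j (a j) := by
      have h3 := h1 (xs i) (Function.update a i p)
      rw [Function.update_eq_self, Function.update_self] at h3
      rw [h3]
      congr 1
      refine Finset.prod_congr rfl fun j hj => ?_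
      rw [Function.update_of_ne (Finset.ne_of_mem_erase hj)]
    rw [h2, mul_assoc]
  exact congrFun (LinearMap.congr_fun h x) a

theorem isOp_sl (j : Fin t) (B : Matrix (Fin k) (Fin k) F) : (tslot ω hω hn j).IsOp (sl j B) := by
  refine ⟨Matrix.toLin' B, fun w y => ?_⟩
  funext a
  rw [sl_apply, tslot_i_apply, Matrix.toLin'_apply, Matrix.mulVec, dotProduct, Finset.sum_mul]
  refine Finset.sum_congr rfl fun p _ => ?_
  rw [tslot_i_apply, Function.update_self, ← ins_res, res_ins, mul_assoc]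

theorem isCo_sl {i j : Fin t} (hij : i ≠ j) (B : Matrix (Fin k) (Fin k) F) : (tslot ω hω hn j).IsCo (sl i B) := by
  refine ⟨⟨⟨fun y b => ∑ p, B (b ⟨i, hij⟩) p * y (Function.update b ⟨i, hij⟩ p), fun x y => by
      funext a
      simp only [Pi.add_apply, mul_add, Finset.sum_add_distrib]⟩, fun c x => by
      funext a
      simp only [Pi.smul_apply, smul_eq_mul, Finset.mul_sum, RingHom.id_apply]
      exact Finset.sum_congr rfl fun p _ => by ring⟩, fun w y => ?_⟩
  funext a
  rw [sl_apply, tslot_i_apply]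
  show _ = w (a j) * ∑ p, B (a i) p * y (Function.update (res j a) ⟨i, hij⟩ p)
  rw [Finset.mul_sum]
  refine Finset.sum_congr rfl fun p _ => ?_
  rw [tslot_i_apply, Function.update_of_ne (Ne.symm hij)]
  have h1 : res j (Function.update a i p) = Function.update (res j a) ⟨i, hij⟩ p := by
    funext l
    by_cases h : l = ⟨i, hij⟩
    · subst h; simp [res]
    · have h2 : l.1 ≠ i := fun h3 => h (Subtype.ext h3)
      rw [Function.update_of_ne h]
      show Function.update a i p l.1 = a l.1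
      rw [Function.update_of_ne h2]
  rw [h1]
  ring

/-- A product matrix as a product over the slots. -/
theorem comm_PM {X : Module.End F ((Fin t → Fin k) → F)} (h : ∀ j B, X * sl j B = sl j B * X)
    (A : Fin t → Matrix (Fin k) (Fin k) F) : X * PM A = PM A * X := by
  classical
  have key : ∀ s : Finset (Fin t), X * PM (fun i => if i ∈ s then A i else 1)
      = PM (fun i => if i ∈ s then A i else 1) * X := by
    intro s
    induction s using Finset.induction_on with
    | empty => simp only [Finset.notMem_empty, if_false, PM_one, mul_one, one_mul]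
    | insert j s hj ih =>
      have h1 : PM (fun i => if i ∈ insert j s then A i else 1)
          = sl j (A j) * PM (fun i => if i ∈ s then A i else 1) := by
        rw [sl, PM_mul]
        congr 1
        funext i
        by_cases hi : i = j
        · subst hi
          rw [if_pos (Finset.mem_insert_self _ _), if_neg hj, Function.update_self, mul_one]
        · rw [Function.update_of_ne hi, one_mul]
          simp only [Finset.mem_insert, hi, false_or]
      rw [h1, ← mul_assoc, h, mul_assoc, ih, mul_assoc]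
  have h2 := key Finset.univ
  simpa using h2

/-- The commutant of all slots consists of the scalars. -/
theorem scalar_of_comm [NeZero k] {X : Module.End F ((Fin t → Fin k) → F)} (h : ∀ j B, X * sl j B = sl j B * X) :
    ∃ c : F, ∀ x, X x = c • x := by
  -- the vector `e_0 ⊗ ⋯ ⊗ e_0`
  let a0 : Fin t → Fin k := fun _ => 0
  let A : (Fin t → (Fin k → F)) → Fin t → Matrix (Fin k) (Fin k) F := fun xs i => fun p q => if q = 0 then xs i p else 0
  have hA : ∀ xs i, A xs i *ᵥ (Pi.single 0 1) = xs i := by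
    intro xs i
    funext p
    rw [Matrix.mulVec_single_one]
    show (if (0 : Fin k) = 0 then xs i p else 0) = xs i p
    rw [if_pos rfl]
  have h0 : ∃ c : F, X (Pi.single a0 1) = c • Pi.single a0 1 := by
    refine ⟨X (Pi.single a0 1) a0, ?_⟩
    have h1 := comm_PM h (A fun _ => Pi.single 0 1)
    have h2 := LinearMap.congr_fun h1 (Pi.single a0 1)
    rw [Module.End.mul_apply, Module.End.mul_apply] at h2
    have h3 : PM (A fun _ => Pi.single 0 1) (Pi.single a0 1) = (Pi.single a0 1 : (Fin t → Fin k) → F) := by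
      rw [single_eq_tp, PM_tp]
      congr 1
      funext i
      exact hA (fun _ => Pi.single 0 1) i
    rw [h3] at h2
    conv_lhs => rw [h2]
    funext a
    rw [Pi.smul_apply, smul_eq_mul, PM_apply, Matrix.mulVec, dotProduct]
    by_cases ha : a = a0
    · subst ha
      rw [Finset.sum_eq_single a0]
      · rw [pm_apply, Pi.single_eq_same, mul_one]
        have : ∏ i : Fin t, A (fun _ => Pi.single 0 1) i (a0 i) (a0 i) = 1 := by
          refine Finset.prod_eq_one fun i _ => ?_
          simp [A, a0]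
        rw [this, one_mul]
      · intro b _ hb
        obtain ⟨i, hi⟩ := Function.ne_iff.1 hb
        rw [pm_apply, Finset.prod_eq_zero (Finset.mem_univ i), zero_mul]
        simp only [A]
        rw [if_neg hi]
      · intro h
        exact absurd (Finset.mem_univ _) h
    · rw [Pi.single_eq_of_ne ha, mul_zero]
      refine Finset.sum_eq_zero fun b _ => ?_
      obtain ⟨i, hi⟩ := Function.ne_iff.1 ha
      rw [pm_apply, Finset.prod_eq_zero (Finset.mem_univ i), zero_mul]
      simp only [A]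
      split_ifs
      · exact Pi.single_eq_of_ne hi _
      · rfl
  obtain ⟨c, hc⟩ := h0
  refine ⟨c, fun x => ?_⟩
  have h4 : X = c • 1 := by
    refine end_ext_tp fun xs => ?_
    have h5 : tp xs = PM (A xs) (Pi.single a0 1) := by
      rw [single_eq_tp, PM_tp]
      congr 1
      funext i
      exact (hA xs i).symm
    rw [h5, ← Module.End.mul_apply, comm_PM h, Module.End.mul_apply, hc, map_smul]
    rfl
  rw [h4]
  rfl

end Slots

end Cfsg.Agent.H874
end

-- part: H874/LevelA
section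
/-!
# Square-zero elements `x` with `1 + x ∈ M`
-/

set_option autoImplicit false
set_option linter.unusedSimpArgs false
set_option linter.unusedVariables false
set_option linter.unusedSectionVars false

namespace Cfsg.Agent.H874

section Abstract

variable {F R : Type*} [Field F] [Ring R] [Algebra F R] {M : Subgroup Rˣ}

/-- `1 + x ∈ M`. -/
def In (M : Subgroup Rˣ) (x : R) : Prop := ∃ g ∈ M, (g : R) = 1 + x

theorem In.zero : In M (0 : R) := ⟨1, M.one_mem, by rw [Units.val_one, add_zero]⟩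

theorem In.add {x y : R} (hx : In M x) (hy : In M y) (h : x * y = 0) : In M (x + y) := by
  obtain ⟨g, hg, hgx⟩ := hx
  obtain ⟨g', hg', hgy⟩ := hy
  refine ⟨g * g', M.mul_mem hg hg', ?_⟩
  have e : (1 + x) * (1 + y) = 1 + (x + y) + x * y := by noncomm_ring
  rw [Units.val_mul, hgx, hgy, e, h, add_zero]

theorem inv_of_sq {g : Rˣ} {x : R} (hg : (g : R) = 1 + x) (h : x * x = 0) : ((g⁻¹ : Rˣ) : R) = 1 - x := by
  have e : (1 + x) * (1 - x) = 1 - x * x := by noncomm_ring
  have h1 : (g : R) * (1 - x) = 1 := by rw [hg, e, h, sub_zero]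
  calc ((g⁻¹ : Rˣ) : R) = ((g⁻¹ : Rˣ) : R) * ((g : R) * (1 - x)) := by rw [h1, mul_one]
    _ = 1 - x := by rw [← mul_assoc, Units.inv_mul, one_mul]

theorem In.neg {x : R} (hx : In M x) (h : x * x = 0) : In M (-x) := by
  obtain ⟨g, hg, hgx⟩ := hx
  exact ⟨g⁻¹, M.inv_mem hg, by rw [inv_of_sq hgx h, sub_eq_add_neg]⟩

theorem In.conj {g : Rˣ} (hg : g ∈ M) {x : R} (hx : In M x) : In M ((g : R) * x * ((g⁻¹ : Rˣ) : R)) := by
  obtain ⟨h, hh, hhx⟩ := hx
  refine ⟨g * h * g⁻¹, M.mul_mem (M.mul_mem hg hh) (M.inv_mem hg), ?_⟩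
  rw [Units.val_mul, Units.val_mul, hhx, mul_add, add_mul, mul_one, Units.mul_inv]

theorem In.conj' {g : Rˣ} (hg : g ∈ M) {x : R} (hx : In M x) : In M (((g⁻¹ : Rˣ) : R) * x * (g : R)) := by
  have h := hx.conj (M.inv_mem hg)
  rwa [inv_inv] at h

theorem In.nsmul {x : R} (hx : In M x) (h : x * x = 0) (n : ℕ) : In M (n • x) := by
  induction n with
  | zero => rw [zero_smul]; exact In.zero
  | succ n ih =>
    rw [succ_nsmul]
    exact ih.add hx (by rw [smul_mul_assoc, h, smul_zero])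

theorem In.half {p : ℕ} [CharP F p] (hp : Odd p) {x : R} (hx : In M x) (h : x * x = 0) : In M ((2⁻¹ : F) • x) := by
  have h1 := hx.nsmul h ((p + 1) / 2)
  have h2 : (((p + 1) / 2 : ℕ) : F) = 2⁻¹ := by
    have h3 : (2 : F) * (((p + 1) / 2 : ℕ) : F) = 1 := by
      obtain ⟨m, hm⟩ := hp
      have h4 : (p + 1) / 2 = m + 1 := by omega
      have h5 : ((2 * m + 1 : ℕ) : F) = 0 := by rw [← hm]; exact CharP.cast_eq_zero F p
      rw [h4]
      push_cast at h5 ⊢
      linear_combination h5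
    exact eq_inv_of_mul_eq_one_right h3
  rw [← h2, Nat.cast_smul_eq_nsmul]
  exact h1

/-- The commutator of `1 + x` and `1 + y`. -/
theorem In.comm {x y : R} (hx : In M x) (hy : In M y) (hxx : x * x = 0) (hyy : y * y = 0) (hxyx : x * y * x = 0)
    (hyxy : y * x * y = 0) : In M (x * y - y * x) := by
  obtain ⟨g, hg, hgx⟩ := hx
  obtain ⟨g', hg', hgy⟩ := hy
  refine ⟨g * g' * g⁻¹ * g'⁻¹, M.mul_mem (M.mul_mem (M.mul_mem hg hg') (M.inv_mem hg)) (M.inv_mem hg'), ?_⟩
  rw [Units.val_mul, Units.val_mul, Units.val_mul, hgx, hgy, inv_of_sq hgx hxx, inv_of_sq hgy hyy]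
  have e1 : (1 + x) * (1 + y) * (1 - x) * (1 - y)
      = 1 + (x * y - y * x) - x * x - y * y + x * x * y - y * x * x * 0 - x * y * x + y * x * y - x * y * y + x * y * x * y
        := by noncomm_ring
  rw [e1, hxx, hyy, hxyx, hyxy, mul_assoc x y y, hyy]
  simp

/-- `x = T y` with `y` commuting with `T`. -/
def Nul (T x : R) : Prop := ∃ y, x = T * y ∧ T * y = y * T

theorem Nul.mul {T x x' : R} (hT : T * T = 0) (hx : Nul T x) (hx' : Nul T x') : x * x' = 0 := by
  obtain ⟨y, rfl, hy⟩ := hx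
  obtain ⟨y', rfl, hy'⟩ := hx'
  rw [hy, mul_assoc, ← mul_assoc T T, hT, zero_mul, mul_zero]

theorem Nul.add {T x x' : R} (hx : Nul T x) (hx' : Nul T x') : Nul T (x + x') := by
  obtain ⟨y, rfl, hy⟩ := hx
  obtain ⟨y', rfl, hy'⟩ := hx'
  exact ⟨y + y', by rw [mul_add], by rw [mul_add, add_mul, hy, hy']⟩

theorem Nul.neg {T x : R} (hx : Nul T x) : Nul T (-x) := by
  obtain ⟨y, rfl, hy⟩ := hx
  exact ⟨-y, by rw [mul_neg], by rw [mul_neg, neg_mul, hy]⟩

theorem Nul.smul {T x : R} (c : F) (hx : Nul T x) : Nul T (c • x) := by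
  obtain ⟨y, rfl, hy⟩ := hx
  exact ⟨c • y, by rw [mul_smul_comm], by rw [mul_smul_comm, smul_mul_assoc, hy]⟩

theorem Nul.mid {T x a b : R} (ha : T * a = a * T) (hb : T * b = b * T) (hx : Nul T x) : Nul T (a * x * b) := by
  obtain ⟨y, rfl, hy⟩ := hx
  refine ⟨a * y * b, ?_, ?_⟩
  · rw [← mul_assoc a T, ← ha]
    simp only [mul_assoc]
  · rw [← mul_assoc, ← mul_assoc, ha, mul_assoc a T y, hy, ← mul_assoc a y T, mul_assoc (a * y) T b, hb]
    simp only [mul_assoc]

/-- `x ↦ D x D` and `x ↦ D x - x D`. -/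
theorem dop {p : ℕ} [CharP F p] (hp : Odd p) {T D x : R} (hT : T * T = 0) (hTD : T * D = D * T) (hDD : D * D = 0)
    (hD : In M D) (hx : In M x) (hN : Nul T x) : In M (D * x * D) ∧ In M (D * x - x * D) := by
  have h2 : (2 : F) ≠ 0 := by
    intro h
    have h3 : ((2 : ℕ) : F) = 0 := by exact_mod_cast h
    rw [CharP.cast_eq_zero_iff F p] at h3
    obtain ⟨m, hm⟩ := hp
    have h4 := Nat.le_of_dvd (by norm_num) h3
    have h5 : p ≠ 1 := CharP.char_ne_one F p
    omega
  obtain ⟨d, hd, hdD⟩ := hD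
  have hdi := inv_of_sq hdD hDD
  have h1 := hx.conj hd
  have h3 := hx.conj' hd
  rw [hdD, hdi] at h1 h3
  have e1 : (1 + D) * x * (1 - D) = x + (D * x - x * D) - D * x * D := by noncomm_ring
  have e2 : (1 - D) * x * (1 + D) = x - (D * x - x * D) - D * x * D := by noncomm_ring
  rw [e1] at h1
  rw [e2] at h3
  have n1 : Nul T (D * x * D) := hN.mid hTD hTD
  have n2 : Nul T (D * x - x * D) := by
    rw [sub_eq_add_neg]
    have ha : Nul T (D * x) := by
      have := hN.mid (b := 1) hTD (by rw [mul_one, one_mul])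
      rwa [mul_one] at this
    have hb : Nul T (x * D) := by
      have := hN.mid (a := 1) (by rw [mul_one, one_mul]) hTD
      rwa [one_mul] at this
    exact ha.add hb.neg
  have n3 : Nul T (x + (D * x - x * D) - D * x * D) := by
    rw [sub_eq_add_neg]; exact (hN.add n2).add n1.neg
  have n4 : Nul T (x - (D * x - x * D) - D * x * D) := by
    rw [sub_eq_add_neg, sub_eq_add_neg]; exact (hN.add n2.neg).add n1.neg
  have hxn : In M (-x) := hx.neg (hN.mul hT hN)
  constructor
  · have h5 := ((h1.add h3 (n3.mul hT n4)).add hxn ((n3.add n4).mul hT hN.neg)).add hxn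
      (((n3.add n4).add hN.neg).mul hT hN.neg)
    have e3 : x + (D * x - x * D) - D * x * D + (x - (D * x - x * D) - D * x * D) + -x + -x
        = -((2 : F) • (D * x * D)) := by rw [two_smul]; abel
    rw [e3] at h5
    have n5 : Nul T (-((2 : F) • (D * x * D))) := (n1.smul 2).neg
    have h6 := (h5.neg (n5.mul hT n5)).half (F := F) hp ((n5.neg).mul hT n5.neg)
    rwa [neg_neg, smul_smul, inv_mul_cancel₀ h2, one_smul] at h6
  · have h4 := h3.neg (n4.mul hT n4)
    have h5 := h1.add h4 (n3.mul hT n4.neg)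
    have e3 : x + (D * x - x * D) - D * x * D + -(x - (D * x - x * D) - D * x * D) = (2 : F) • (D * x - x * D) := by
      rw [two_smul]; abel
    rw [e3] at h5
    have n5 := n2.smul (2 : F)
    have h6 := h5.half (F := F) hp (n5.mul hT n5)
    rwa [smul_smul, inv_mul_cancel₀ h2, one_smul] at h6

end Abstract

namespace Slot

variable {F W W' V : Type*} [Field F] [AddCommGroup W] [Module F W] [AddCommGroup W'] [Module F W']
    [AddCommGroup V] [Module F V] {S : Slot F W W' V}

theorem IsCo.c {X : Module.End F V} {Z : Module.End F W'} (hZ : ∀ w y, X (S.i w y) = S.i w (Z y)) (v : W) (x : V) :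
    S.c v (X x) = Z (S.c v x) := by
  have h : S.c v ∘ₗ X = Z ∘ₗ S.c v := by
    refine S.ext_i fun w y => ?_
    rw [LinearMap.comp_apply, LinearMap.comp_apply, hZ, S.ci, S.ci, map_smul]
  exact LinearMap.congr_fun h x

/-- The one-slot analysis. -/
theorem one_slot (hex : ∀ u v : W, u ≠ 0 → v ≠ 0 → ∃ x, S.ω u x ≠ 0 ∧ S.ω v x ≠ 0) (P : Module.End F V → Prop)
    (hneg : ∀ x, P x → P (-x)) (hD : ∀ x v, P x → P (S.Δ v * x * S.Δ v))
    (hB : ∀ x v, P x → P (S.Δ v * x - x * S.Δ v)) {x : Module.End F V} (hx : P x) :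
    (∃ v, S.c v ∘ₗ x ∘ₗ S.i v ≠ 0 ∧ P (S.i v ∘ₗ (S.c v ∘ₗ x ∘ₗ S.i v) ∘ₗ S.c v)) ∨
    (∃ u v, S.ω u v = 0 ∧ (∀ a : F, v ≠ a • u) ∧ u ≠ 0 ∧ S.c u ∘ₗ x ∘ₗ S.i v ≠ 0 ∧
      P (S.i u ∘ₗ (S.c u ∘ₗ x ∘ₗ S.i v) ∘ₗ S.c v - S.i v ∘ₗ (S.c u ∘ₗ x ∘ₗ S.i v) ∘ₗ S.c u)) ∨
    S.IsCo x := by
  by_cases h1 : ∃ v, S.c v ∘ₗ x ∘ₗ S.i v ≠ 0
  · obtain ⟨v, hv⟩ := h1
    exact Or.inl ⟨v, hv, hD x v hx⟩
  push Not at h1
  have h1' : ∀ v y, S.c v (x (S.i v y)) = 0 := fun v y => LinearMap.congr_fun (h1 v) y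
  have h3 : ∀ u v y, S.c u (x (S.i v y)) = - S.c v (x (S.i u y)) := by
    intro u v y
    have h4 := h1' (u + v) y
    simp only [map_add, LinearMap.add_apply, h1'] at h4
    rw [zero_add, add_zero] at h4
    exact eq_neg_of_add_eq_zero_left (by rw [add_comm]; exact h4)
  by_cases h2 : ∃ u v, S.ω u v = 0 ∧ S.c u ∘ₗ x ∘ₗ S.i v ≠ 0
  · obtain ⟨u, v, huv, hz⟩ := h2
    refine Or.inr (Or.inl ⟨u, v, huv, ?_, ?_, hz, ?_⟩)
    · rintro a rfl
      apply hz
      ext y
      rw [LinearMap.comp_apply, LinearMap.comp_apply, map_smul, LinearMap.smul_apply, map_smul, map_smul, h1',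
        smul_zero, LinearMap.zero_apply]
    · rintro rfl
      apply hz
      rw [map_zero, LinearMap.zero_comp]
    · have h5 := hneg _ (hB _ u (hB x v hx))
      have h6 : -(S.Δ u * (S.Δ v * x - x * S.Δ v) - (S.Δ v * x - x * S.Δ v) * S.Δ u)
          = S.i u ∘ₗ (S.c u ∘ₗ x ∘ₗ S.i v) ∘ₗ S.c v - S.i v ∘ₗ (S.c u ∘ₗ x ∘ₗ S.i v) ∘ₗ S.c u := by
        have hvu := S.perp_comm huv
        refine LinearMap.ext fun y => ?_
        simp only [LinearMap.neg_apply, LinearMap.sub_apply, Module.End.mul_apply, S.Δ_apply, map_sub,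
          LinearMap.comp_apply]
        have e1 : S.c u (S.i v (S.c v (x y))) = 0 := by rw [S.ci, huv, zero_smul]
        have e2 : S.c v (S.i u (S.c u y)) = 0 := by rw [S.ci, hvu, zero_smul]
        rw [e1, e2, h3 v u (S.c u y)]
        simp only [map_zero, map_neg]
        abel
      rwa [h6] at h5
  · right; right
    push Not at h2
    have h2' : ∀ u v, S.ω u v = 0 → ∀ y, S.c u (x (S.i v y)) = 0 := fun u v h y => LinearMap.congr_fun (h2 u v h) y
    by_cases hW : ∀ w : W, w = 0
    · refine ⟨0, fun w y => ?_⟩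
      rw [hW w, map_zero, LinearMap.zero_apply, LinearMap.zero_apply, map_zero]
    push Not at hW
    obtain ⟨w, hw⟩ := hW
    obtain ⟨u0, hu0⟩ := S.exists_pair hw
    -- `b(u, v) = ω(u, v) b(u, v')` for `ω(u, v') = 1`
    have k1 : ∀ u v' : W, S.ω u v' = 1 → ∀ v y, S.c u (x (S.i v y)) = S.ω u v • S.c u (x (S.i v' y)) := by
      intro u v' h v y
      have h4 := h2' u (v - S.ω u v • v') (by rw [map_sub, map_smul, h, smul_eq_mul, mul_one, sub_self]) y
      rw [map_sub, map_smul, LinearMap.sub_apply, LinearMap.smul_apply, map_sub, map_smul, map_sub, map_smul,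
        sub_eq_zero] at h4
      exact h4
    -- `c u x i v = ω u v • Z`
    let Z : Module.End F W' := S.c w ∘ₗ x ∘ₗ S.i u0
    have hZ : ∀ u v y, S.c u (x (S.i v y)) = S.ω u v • Z y := by
      intro u v y
      by_cases hu : u = 0
      · rw [hu, map_zero, map_zero, LinearMap.zero_apply, LinearMap.zero_apply, zero_smul]
      obtain ⟨v1, hv1⟩ := S.exists_pair hu
      obtain ⟨z, hz1, hz2⟩ := hex u w hu hw
      -- `z` with both
      have e1 := k1 w u0 hu0 z y
      have e2 := k1 u v1 hv1 z y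
      have e3 := k1 u v1 hv1 v y
      -- `b(u, z) = - b(z, u)`, `b(w, z) = - b(z, w)`
      obtain ⟨z', hz'⟩ : ∃ z', S.ω z z' = 1 := by
        refine S.exists_pair ?_
        rintro rfl
        rw [map_zero] at hz1
        exact hz1 rfl
      have e4 := k1 z z' hz' u y
      have e5 := k1 z z' hz' w y
      rw [h3 z u, neg_eq_iff_eq_neg] at e4
      rw [h3 z w, neg_eq_iff_eq_neg] at e5
      rw [e4, S.skew z u, neg_smul, neg_neg] at e2
      rw [e5, S.skew z w, neg_smul, neg_neg] at e1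
      have e6 := smul_right_injective W' hz1 e2
      have e7 := smul_right_injective W' hz2 e1
      rw [e3, ← e6, e7]
      rfl
    refine ⟨Z, fun v y => S.ext_c fun u => ?_⟩
    rw [hZ, S.ci]

end Slot

end Cfsg.Agent.H874
end

-- part: H874/LevelB
section
/-!
# Purification: square-zero elements of `M` in tensor powers can be made pure
-/

set_option autoImplicit false
set_option linter.unusedSimpArgs false
set_option linter.unusedVariables false
set_option linter.unusedSectionVars false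

namespace Cfsg.Agent.H874

open Matrix Cfsg.Agent.H889

variable {F : Type*} [Field F] {k t : ℕ}

/-- `1 ⊗ z`. -/
def coj (j : Fin t) (z : Module.End F (({i : Fin t // i ≠ j} → Fin k) → F)) :
    Module.End F ((Fin t → Fin k) → F) where
  toFun x a := z (fun b => x (ins j (a j) b)) (res j a)
  map_add' x y := by
    funext a
    have h : (fun b => (x + y) (ins j (a j) b)) = (fun b => x (ins j (a j) b)) + fun b => y (ins j (a j) b) := rfl
    rw [h, map_add]
    rfl
  map_smul' c x := by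
    funext a
    have h : (fun b => (c • x) (ins j (a j) b)) = c • (fun b => x (ins j (a j) b)) := rfl
    rw [h, map_smul]
    rfl

section Slots

variable (ω : (Fin k → F) →ₗ[F] (Fin k → F) →ₗ[F] F) (hω : ∀ w, ω w w = 0)
    (hn : ∀ w, (∀ x, ω w x = 0) → w = 0)

theorem coj_i (j : Fin t) (z : Module.End F (({i : Fin t // i ≠ j} → Fin k) → F)) (w : Fin k → F)
    (y : ({i : Fin t // i ≠ j} → Fin k) → F) :
    coj j z ((tslot ω hω hn j).i w y) = (tslot ω hω hn j).i w (z y) := by
  funext a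
  show z (fun b => (tslot ω hω hn j).i w y (ins j (a j) b)) (res j a) = w (a j) * z y (res j a)
  have h : (fun b => (tslot ω hω hn j).i w y (ins j (a j) b)) = w (a j) • y := by
    funext b
    rw [tslot_i_apply, ins_self, res_ins, Pi.smul_apply, smul_eq_mul]
  rw [h, map_smul, Pi.smul_apply, smul_eq_mul]

theorem sl_mul_coj (j : Fin t) (a b : Fin k → F) (z : Module.End F (({i : Fin t // i ≠ j} → Fin k) → F)) :
    sl j (eM ω a b) * coj j z = (tslot ω hω hn j).i a ∘ₗ z ∘ₗ (tslot ω hω hn j).c b := by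
  refine (tslot ω hω hn j).ext_i fun w y => ?_
  rw [Module.End.mul_apply, coj_i, ← E_eq_sl ω hω hn, Slot.E_apply, Slot.ci, LinearMap.comp_apply, LinearMap.comp_apply,
    Slot.ci, map_smul, map_smul, map_smul]

include ω hω hn in
theorem coj_comm_self (j : Fin t) (B : Matrix (Fin k) (Fin k) F)
    (z : Module.End F (({i : Fin t // i ≠ j} → Fin k) → F)) : coj j z * sl j B = sl j B * coj j z :=
  (Slot.IsOp.comm (isOp_sl ω hω hn j B) ⟨z, coj_i ω hω hn j z⟩).symm

theorem coj_comm_of {i j : Fin t} (hij : i ≠ j) (B : Matrix (Fin k) (Fin k) F) {x : Module.End F ((Fin t → Fin k) → F)}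
    (hx : x * sl i B = sl i B * x) (u v : Fin k → F) :
    coj j ((tslot ω hω hn j).c u ∘ₗ x ∘ₗ (tslot ω hω hn j).i v) * sl i B
      = sl i B * coj j ((tslot ω hω hn j).c u ∘ₗ x ∘ₗ (tslot ω hω hn j).i v) := by
  obtain ⟨Z, hZ⟩ := isCo_sl ω hω hn hij B
  refine (tslot ω hω hn j).ext_i fun w y => ?_
  rw [Module.End.mul_apply, Module.End.mul_apply, hZ, coj_i, coj_i, hZ]
  congr 1
  rw [LinearMap.comp_apply, LinearMap.comp_apply, LinearMap.comp_apply, LinearMap.comp_apply, ← hZ,
    ← Module.End.mul_apply, hx, Module.End.mul_apply, Slot.IsCo.c hZ]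

theorem coj_ne_zero [NeZero k] {j : Fin t} {z : Module.End F (({i : Fin t // i ≠ j} → Fin k) → F)} (hz : z ≠ 0) :
    coj j z ≠ 0 := by
  intro h
  apply hz
  refine LinearMap.ext fun y => ?_
  funext b
  have h1 := congrFun (LinearMap.congr_fun h (fun a => (Pi.single (0 : Fin k) (1 : F) : Fin k → F) (a j) * y (res j a)))
    (ins j 0 b)
  have h2 : (fun b' => (Pi.single (0 : Fin k) (1 : F) : Fin k → F) ((ins j (ins j 0 b j) b') j) *
      y (res j (ins j (ins j 0 b j) b'))) = y := by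
    funext b'
    rw [ins_self, ins_self, res_ins, Pi.single_eq_same, one_mul]
  have h3 : coj j z (fun a => (Pi.single (0 : Fin k) (1 : F) : Fin k → F) (a j) * y (res j a)) (ins j 0 b) = z y b := by
    show z (fun b' => (Pi.single (0 : Fin k) (1 : F) : Fin k → F) ((ins j (ins j 0 b j) b') j) *
      y (res j (ins j (ins j 0 b j) b'))) (res j (ins j 0 b)) = z y b
    rw [h2, res_ins]
  rw [← h3, h1]
  rfl

/-- The three types of slot components. -/
def Typ (X : Matrix (Fin k) (Fin k) F) : Prop :=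
  (∃ v, v ≠ 0 ∧ X = eM ω v v) ∨
  (∃ u v, ω u v = 0 ∧ (∀ a : F, v ≠ a • u) ∧ u ≠ 0 ∧ X = eM ω u v - eM ω v u) ∨ X = 1

/-- `A` on `s`, `1` elsewhere. -/
def onS (s : Finset (Fin t)) (A : Fin t → Matrix (Fin k) (Fin k) F) : Fin t → Matrix (Fin k) (Fin k) F :=
  fun i => if i ∈ s then A i else 1

theorem PM_zero {A : Fin t → Matrix (Fin k) (Fin k) F} (j : Fin t) (h : A j = 0) : PM A = 0 := by
  have h1 : pm A = 0 := by
    ext a b
    rw [pm_apply, Finset.prod_eq_zero (Finset.mem_univ j)]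
    · rfl
    · rw [h]; rfl
  rw [PM, h1, map_zero]

theorem onS_insert {s : Finset (Fin t)} {j : Fin t} (hj : j ∉ s) (A : Fin t → Matrix (Fin k) (Fin k) F)
    (B : Matrix (Fin k) (Fin k) F) :
    PM (onS (insert j s) (Function.update A j B)) = PM (onS s A) * sl j B := by
  rw [sl, PM_mul]
  congr 1
  funext i
  by_cases hi : i = j
  · subst hi
    simp only [onS, Finset.mem_insert_self, if_true, Function.update_self, if_neg hj, one_mul]
  · simp only [onS, Finset.mem_insert, hi, false_or, Function.update_of_ne hi, mul_one]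

theorem sl_comm_onS {s : Finset (Fin t)} {j : Fin t} (hj : j ∉ s) (A : Fin t → Matrix (Fin k) (Fin k) F)
    (B : Matrix (Fin k) (Fin k) F) : PM (onS s A) * sl j B = sl j B * PM (onS s A) := by
  rw [sl, PM_mul, PM_mul]
  congr 1
  funext i
  by_cases hi : i = j
  · subst hi
    simp only [onS, if_neg hj, one_mul, mul_one]
  · rw [Function.update_of_ne hi, one_mul, mul_one]

theorem comm_onS {s : Finset (Fin t)} {y : Module.End F ((Fin t → Fin k) → F)}
    (hy : ∀ i ∈ s, ∀ B, y * sl i B = sl i B * y) (A : Fin t → Matrix (Fin k) (Fin k) F) :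
    y * PM (onS s A) = PM (onS s A) * y := by
  classical
  have key : ∀ r ⊆ s, y * PM (onS r A) = PM (onS r A) * y := by
    intro r
    induction r using Finset.induction_on with
    | empty =>
      intro _
      have : onS (∅ : Finset (Fin t)) A = fun _ => 1 := by funext i; simp [onS]
      rw [this, PM_one, mul_one, one_mul]
    | insert j r hj ih =>
      intro hr
      have h1 := onS_insert hj A (A j)
      rw [Function.update_eq_self] at h1
      rw [h1, ← mul_assoc, ih fun i hi => hr (Finset.mem_insert_of_mem hi), mul_assoc,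
        hy j (hr (Finset.mem_insert_self _ _)), mul_assoc]
  exact key s (Finset.Subset.refl s)

theorem eM_sq {v : Fin k → F} (h : ω v v = 0) : eM ω v v * eM ω v v = 0 := by
  rw [eM_mul, h, zero_smul]

theorem sq_ne_one [NeZero k] {X : Matrix (Fin k) (Fin k) F} (h : X * X = 0) : X ≠ 1 := by
  rintro rfl
  rw [mul_one] at h
  have h1 := congrFun (congrFun h 0) 0
  rw [Matrix.one_apply_eq] at h1
  exact one_ne_zero h1

theorem eL_sq {u v : Fin k → F} (hω : ∀ w, ω w w = 0) (h : ω u v = 0) (h' : ω v u = 0) :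
    (eM ω u v - eM ω v u) * (eM ω u v - eM ω v u) = 0 := by
  rw [sub_mul, mul_sub, mul_sub, eM_mul, eM_mul, eM_mul, eM_mul, h, h', hω, hω]
  simp

variable {ω} (M : Subgroup (Module.End F ((Fin t → Fin k) → F))ˣ)

/-- One step of the purification. -/
theorem purify_step [NeZero k] {p : ℕ} [CharP F p] (hp : Odd p)
    (hex : ∀ u v : Fin k → F, u ≠ 0 → v ≠ 0 → ∃ x, ω u x ≠ 0 ∧ ω v x ≠ 0)
    (hω : ∀ w, ω w w = 0) (hn : ∀ w, (∀ x, ω w x = 0) → w = 0)
    (hroot : ∀ j v, In M (sl j (eM ω v v))) (s : Finset (Fin t)) (j : Fin t) (hj : j ∉ s)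
    (A : Fin t → Matrix (Fin k) (Fin k) F) (j0 : Fin t) (hj0 : j0 ∈ s) (hA : A j0 * A j0 = 0)
    (y : Module.End F ((Fin t → Fin k) → F)) (hy0 : y ≠ 0) (hy : ∀ i ∈ s, ∀ B, y * sl i B = sl i B * y)
    (hIn : In M (PM (onS s A) * y)) :
    (∃ X y', Typ ω X ∧ X * X = 0 ∧ y' ≠ 0 ∧ (∀ i ∈ insert j s, ∀ B, y' * sl i B = sl i B * y') ∧
      In M (PM (onS (insert j s) (Function.update A j X)) * y')) ∨
    ((∀ i ∈ insert j s, ∀ B, y * sl i B = sl i B * y) ∧
      In M (PM (onS (insert j s) (Function.update A j 1)) * y)) := by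
  classical
  have hTT : PM (onS s A) * PM (onS s A) = 0 := by
    rw [PM_mul]
    refine PM_zero j0 ?_
    simp only [onS, if_pos hj0, hA]
  obtain ⟨T, hT⟩ : ∃ T, T = PM (onS s A) := ⟨_, rfl⟩
  have hTs : ∀ B, T * sl j B = sl j B * T := fun B => by rw [hT]; exact sl_comm_onS hj A B
  have hTc : ∀ y, (∀ i ∈ s, ∀ B, y * sl i B = sl i B * y) → T * y = y * T := fun y hy => by
    rw [hT]; exact (comm_onS hy A).symm
  rw [← hT] at hTT hIn
  let S := tslot ω hω hn j
  let P : Module.End F ((Fin t → Fin k) → F) → Prop := fun y =>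
    (∀ i ∈ s, ∀ B, y * sl i B = sl i B * y) ∧ In M (T * y)
  have hij : ∀ i ∈ s, i ≠ j := fun i hi h => hj (h ▸ hi)
  have hnul : ∀ y, (∀ i ∈ s, ∀ B, y * sl i B = sl i B * y) → Nul T (T * y) := fun y hy => ⟨y, rfl, hTc y hy⟩
  have hDD : ∀ v, sl j (eM ω v v) * sl j (eM ω v v) = 0 := fun v => by
    rw [sl_mul, eM_sq ω (hω v), sl_zero]
  have hPneg : ∀ x, P x → P (-x) := by
    rintro x ⟨h1, h2⟩
    have e1 : ∀ a b : Module.End F ((Fin t → Fin k) → F), a * -b = -(a * b) := fun a b => LinearMap.comp_neg b a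
    have e2 : ∀ a b : Module.End F ((Fin t → Fin k) → F), -a * b = -(a * b) := fun a b => LinearMap.neg_comp b a
    refine ⟨fun i hi B => by rw [e1, e2, h1 i hi], ?_⟩
    rw [e1]
    exact h2.neg ((hnul x h1).mul hTT (hnul x h1))
  have hPD : ∀ x v, P x → P (S.Δ v * x * S.Δ v) := by
    rintro x v ⟨h1, h2⟩
    have hΔ : S.Δ v = sl j (eM ω v v) := Δ_eq_sl ω hω hn j v
    rw [hΔ]
    refine ⟨fun i hi B => ?_, ?_⟩
    · rw [mul_assoc, sl_comm (hij i hi).symm, ← mul_assoc, mul_assoc _ x, h1 i hi, ← mul_assoc, sl_comm (hij i hi).symm]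
      simp only [mul_assoc]
    · have h3 := (dop (F := F) hp hTT (hTs _) (hDD v) (hroot j v) h2 (hnul x h1)).1
      rw [← mul_assoc, ← mul_assoc, hTs]
      rwa [← mul_assoc] at h3
  have hPB : ∀ x v, P x → P (S.Δ v * x - x * S.Δ v) := by
    rintro x v ⟨h1, h2⟩
    have hΔ : S.Δ v = sl j (eM ω v v) := Δ_eq_sl ω hω hn j v
    rw [hΔ]
    refine ⟨fun i hi B => ?_, ?_⟩
    · rw [sub_mul, mul_sub, mul_assoc, h1 i hi, ← mul_assoc, sl_comm (hij i hi).symm, mul_assoc, mul_assoc,
        sl_comm (hij i hi).symm, ← mul_assoc x, h1 i hi]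
      simp only [mul_assoc]
    · have h3 := (dop (F := F) hp hTT (hTs _) (hDD v) (hroot j v) h2 (hnul x h1)).2
      rw [mul_sub, ← mul_assoc, ← mul_assoc, hTs]
      rwa [← mul_assoc] at h3
  rcases S.one_slot hex P hPneg hPD hPB (x := y) ⟨hy, hIn⟩ with ⟨v, hz, hv1, hv2⟩ | ⟨u, v, huv, hlin, hu0, hz, h1, h2⟩ | hco
  · left
    have hv0 : v ≠ 0 := by
      rintro rfl
      exact hz (by rw [map_zero, LinearMap.zero_comp])
    refine ⟨eM ω v v, coj j (S.c v ∘ₗ y ∘ₗ S.i v), Or.inl ⟨v, hv0, rfl⟩, eM_sq ω (hω v), coj_ne_zero hz, ?_, ?_⟩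
    · intro i hi B
      rcases Finset.mem_insert.1 hi with rfl | hi
      · exact coj_comm_self ω hω hn _ B _
      · exact coj_comm_of ω hω hn (hij i hi) B (hy i hi B) v v
    · rw [onS_insert hj, mul_assoc, sl_mul_coj ω hω hn, ← hT]
      exact hv2
  · left
    have huv' : ω v u = 0 := S.perp_comm huv
    refine ⟨eM ω u v - eM ω v u, coj j (S.c u ∘ₗ y ∘ₗ S.i v), Or.inr (Or.inl ⟨u, v, huv, hlin, hu0, rfl⟩),
      eL_sq ω hω huv huv', coj_ne_zero hz, ?_, ?_⟩
    · intro i hi B
      rcases Finset.mem_insert.1 hi with rfl | hi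
      · exact coj_comm_self ω hω hn _ B _
      · exact coj_comm_of ω hω hn (hij i hi) B (hy i hi B) u v
    · have h3 : sl j (eM ω u v - eM ω v u) = sl j (eM ω u v) - sl j (eM ω v u) := by
        have h4 : eM ω u v - eM ω v u = eM ω u v + (-1 : F) • eM ω v u := by
          rw [neg_one_smul, sub_eq_add_neg]
        rw [h4, sl_add, sl_smul]
        refine LinearMap.ext fun x => ?_
        simp only [LinearMap.add_apply, LinearMap.smul_apply, LinearMap.sub_apply, neg_smul, one_smul,
          LinearMap.neg_apply, sub_eq_add_neg]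
      rw [onS_insert hj, mul_assoc, h3, sub_mul, sl_mul_coj ω hω hn, sl_mul_coj ω hω hn, ← hT]
      exact h2
  · right
    refine ⟨?_, ?_⟩
    · intro i hi B
      rcases Finset.mem_insert.1 hi with rfl | hi
      · exact (Slot.IsOp.comm (isOp_sl ω hω hn _ B) hco).symm
      · exact hy i hi B
    · rw [onS_insert hj, sl_one, mul_one, ← hT]
      exact hIn

theorem purify [NeZero k] {p : ℕ} [CharP F p] (hp : Odd p)
    (hex : ∀ u v : Fin k → F, u ≠ 0 → v ≠ 0 → ∃ x, ω u x ≠ 0 ∧ ω v x ≠ 0)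
    (hω : ∀ w, ω w w = 0) (hn : ∀ w, (∀ x, ω w x = 0) → w = 0)
    (hroot : ∀ j v, In M (sl j (eM ω v v))) (n : ℕ) : ∀ (s : Finset (Fin t)), (Finset.univ \ s).card = n →
    ∀ (A : Fin t → Matrix (Fin k) (Fin k) F), ∀ j0 ∈ s, A j0 * A j0 = 0 → (∀ i ∈ s, Typ ω (A i)) →
    ∀ y : Module.End F ((Fin t → Fin k) → F), y ≠ 0 → (∀ i ∈ s, ∀ B, y * sl i B = sl i B * y) →
    In M (PM (onS s A) * y) →
    ∃ (A' : Fin t → Matrix (Fin k) (Fin k) F) (c : F), c ≠ 0 ∧ (∀ i ∈ s, A' i = A i) ∧ (∀ i, Typ ω (A' i)) ∧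
      In M (c • PM A') := by
  classical
  induction n with
  | zero =>
    intro s hs A j0 hj0 hA hT y hy0 hy hIn
    have hs' : s = Finset.univ := by
      rw [Finset.card_eq_zero, Finset.sdiff_eq_empty_iff_subset] at hs
      exact Finset.univ_subset_iff.1 hs
    subst hs'
    obtain ⟨c, hc⟩ := scalar_of_comm fun j B => hy j (Finset.mem_univ j) B
    have hyc : y = c • 1 := LinearMap.ext fun x => by rw [hc]; rfl
    have hon : onS Finset.univ A = A := by funext i; simp [onS]
    refine ⟨A, c, ?_, fun _ _ => rfl, fun i => hT i (Finset.mem_univ i), ?_⟩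
    · rintro rfl
      exact hy0 (by rw [hyc, zero_smul])
    · rwa [hyc, mul_smul_comm, mul_one, hon] at hIn
  | succ n ih =>
    intro s hs A j0 hj0 hA hT y hy0 hy hIn
    obtain ⟨j, hj⟩ : (Finset.univ \ s).Nonempty := by
      rw [← Finset.card_pos, hs]; omega
    have hjs : j ∉ s := (Finset.mem_sdiff.1 hj).2
    have hj0j : j0 ≠ j := fun h => hjs (h ▸ hj0)
    have hcard : (Finset.univ \ insert j s).card = n := by
      have h1 : Finset.univ \ insert j s = (Finset.univ \ s).erase j := by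
        ext i
        simp only [Finset.mem_sdiff, Finset.mem_univ, true_and, Finset.mem_insert, not_or, Finset.mem_erase]
      rw [h1, Finset.card_erase_of_mem hj, hs]
      rfl
    have hup : ∀ (X : Matrix (Fin k) (Fin k) F), ∀ i ∈ s, Function.update A j X i = A i := fun X i hi =>
      Function.update_of_ne (fun h => hjs (by rw [← h]; exact hi)) _ _
    have hgo : ∀ (X : Matrix (Fin k) (Fin k) F) (y' : Module.End F ((Fin t → Fin k) → F)), Typ ω X → y' ≠ 0 →
        (∀ i ∈ insert j s, ∀ B, y' * sl i B = sl i B * y') →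
        In M (PM (onS (insert j s) (Function.update A j X)) * y') →
        ∃ (A' : Fin t → Matrix (Fin k) (Fin k) F) (c : F), c ≠ 0 ∧ (∀ i ∈ s, A' i = A i) ∧ (∀ i, Typ ω (A' i)) ∧
          In M (c • PM A') := by
      intro X y' hX hy'0 hy' hIn'
      obtain ⟨A', c, hc, hA', hA'', hIn''⟩ := ih (insert j s) hcard (Function.update A j X) j0
        (Finset.mem_insert_of_mem hj0) (by rw [Function.update_of_ne hj0j]; exact hA)
        (by
          intro i hi
          rcases Finset.mem_insert.1 hi with rfl | hi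
          · rw [Function.update_self]; exact hX
          · rw [hup X i hi]; exact hT i hi) y' hy'0 hy' hIn'
      exact ⟨A', c, hc, fun i hi => by rw [hA' i (Finset.mem_insert_of_mem hi), hup X i hi], hA'', hIn''⟩
    rcases purify_step M hp hex hω hn hroot s j hjs A j0 hj0 hA y hy0 hy hIn with
      ⟨X, y', hX, hXX, hy'0, hy', hIn'⟩ | ⟨hy', hIn'⟩
    · exact hgo X y' hX hy'0 hy' hIn'
    · exact hgo 1 y (Or.inr (Or.inr rfl)) hy0 hy' hIn'

theorem purify' [NeZero k] {p : ℕ} [CharP F p] (hp : Odd p)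
    (hex : ∀ u v : Fin k → F, u ≠ 0 → v ≠ 0 → ∃ x, ω u x ≠ 0 ∧ ω v x ≠ 0)
    (hω : ∀ w, ω w w = 0) (hn : ∀ w, (∀ x, ω w x = 0) → w = 0)
    (hroot : ∀ j v, In M (sl j (eM ω v v))) (n : ℕ) : ∀ (s : Finset (Fin t)), (Finset.univ \ s).card = n →
    ∀ (A : Fin t → Matrix (Fin k) (Fin k) F), ∀ j0 ∈ s, A j0 * A j0 = 0 → (∀ i ∈ s, Typ ω (A i)) →
    ∀ y : Module.End F ((Fin t → Fin k) → F), (¬ ∃ c : F, y = c • 1) → (∀ i ∈ s, ∀ B, y * sl i B = sl i B * y) →
    In M (PM (onS s A) * y) →
    ∃ (A' : Fin t → Matrix (Fin k) (Fin k) F) (c : F), c ≠ 0 ∧ (∀ i ∈ s, A' i = A i) ∧ (∀ i, Typ ω (A' i)) ∧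
      In M (c • PM A') ∧ ∃ i ∉ s, A' i ≠ 1 := by
  classical
  induction n with
  | zero =>
    intro s hs A j0 hj0 hA hT y hy0 hy hIn
    exfalso
    have hs' : s = Finset.univ := by
      rw [Finset.card_eq_zero, Finset.sdiff_eq_empty_iff_subset] at hs
      exact Finset.univ_subset_iff.1 hs
    subst hs'
    obtain ⟨c, hc⟩ := scalar_of_comm fun j B => hy j (Finset.mem_univ j) B
    exact hy0 ⟨c, LinearMap.ext fun x => by rw [hc]; rfl⟩
  | succ n ih =>
    intro s hs A j0 hj0 hA hT y hy0 hy hIn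
    obtain ⟨j, hj⟩ : (Finset.univ \ s).Nonempty := by
      rw [← Finset.card_pos, hs]; omega
    have hjs : j ∉ s := (Finset.mem_sdiff.1 hj).2
    have hj0j : j0 ≠ j := fun h => hjs (h ▸ hj0)
    have hcard : (Finset.univ \ insert j s).card = n := by
      have h1 : Finset.univ \ insert j s = (Finset.univ \ s).erase j := by
        ext i
        simp only [Finset.mem_sdiff, Finset.mem_univ, true_and, Finset.mem_insert, not_or, Finset.mem_erase]
      rw [h1, Finset.card_erase_of_mem hj, hs]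
      rfl
    have hup : ∀ (X : Matrix (Fin k) (Fin k) F), ∀ i ∈ s, Function.update A j X i = A i := fun X i hi =>
      Function.update_of_ne (fun h => hjs (by rw [← h]; exact hi)) _ _
    have hy00 : y ≠ 0 := fun h => hy0 ⟨0, by rw [h, zero_smul]⟩
    rcases purify_step M hp hex hω hn hroot s j hjs A j0 hj0 hA y hy00 hy hIn with
      ⟨X, y', hX, hXX, hy'0, hy', hIn'⟩ | ⟨hy', hIn'⟩
    · obtain ⟨A', c, hc, hA', hA'', hIn''⟩ := purify M hp hex hω hn hroot n (insert j s) hcard (Function.update A j X) j0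
        (Finset.mem_insert_of_mem hj0) (by rw [Function.update_of_ne hj0j]; exact hA)
        (by
          intro i hi
          rcases Finset.mem_insert.1 hi with rfl | hi
          · rw [Function.update_self]; exact hX
          · rw [hup X i hi]; exact hT i hi) y' hy'0 hy' hIn'
      refine ⟨A', c, hc, fun i hi => by rw [hA' i (Finset.mem_insert_of_mem hi), hup X i hi], hA'', hIn'', j, hjs, ?_⟩
      rw [hA' j (Finset.mem_insert_self _ _), Function.update_self]
      exact sq_ne_one hXX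
    · obtain ⟨A', c, hc, hA', hA'', hIn'', i, hi, hi1⟩ := ih (insert j s) hcard (Function.update A j 1) j0
        (Finset.mem_insert_of_mem hj0) (by rw [Function.update_of_ne hj0j]; exact hA)
        (by
          intro i hi
          rcases Finset.mem_insert.1 hi with rfl | hi
          · rw [Function.update_self]; exact Or.inr (Or.inr rfl)
          · rw [hup 1 i hi]; exact hT i hi) y hy0 hy' hIn'
      exact ⟨A', c, hc, fun i hi => by rw [hA' i (Finset.mem_insert_of_mem hi), hup 1 i hi], hA'', hIn'', i,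
        fun h => hi (Finset.mem_insert_of_mem h), hi1⟩

end Slots

end Cfsg.Agent.H874
end

-- part: H874/LevelC
section
/-!
# Raising the level: from bad pure elements to transvections with pure centre (odd tensor powers)
-/

set_option autoImplicit false
set_option linter.unusedSimpArgs false
set_option linter.unusedVariables false
set_option linter.unusedSectionVars false

namespace Cfsg.Agent.H874

open Matrix Cfsg.Agent.H889

variable {F : Type*} [Field F] {k t : ℕ}

theorem PM_smul (ε : Fin t → F) (A : Fin t → Matrix (Fin k) (Fin k) F) :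
    PM (fun i => ε i • A i) = (∏ i, ε i) • PM A := by
  have h : pm (fun i => ε i • A i) = (∏ i, ε i) • pm A := by
    ext a b
    rw [pm_apply, Matrix.smul_apply, pm_apply, smul_eq_mul, ← Finset.prod_mul_distrib]
    rfl
  rw [PM, PM, h, map_smul]

section Slots

variable {ω : (Fin k → F) →ₗ[F] (Fin k → F) →ₗ[F] F} {M : Subgroup (Module.End F ((Fin t → Fin k) → F))ˣ}

theorem key [NeZero k] {p : ℕ} [CharP F p] (hp : Odd p) (hω : ∀ w, ω w w = 0)
    (hroot : ∀ j v, In M (sl j (eM ω v v)))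
    {A B C : Fin t → Matrix (Fin k) (Fin k) F} {c : F} {ε : Fin t → F} {Q : Finset (Fin t)}
    {w : Fin t → (Fin k → F)} {a0 : Fin t} (ha0 : a0 ∉ Q) (hC0 : C a0 * C a0 = 0)
    (hA : In M (c • PM A)) (hB : In M (c • PM B)) (hAA : ∃ i, A i * A i = 0) (hBB : ∃ i, B i * B i = 0)
    (hABA : ∃ i, A i * B i * A i = 0) (hBAB : ∃ i, B i * A i * B i = 0)
    (hAB : ∀ i, i ∉ Q → A i * B i = C i ∧ B i * A i = ε i • C i)
    (hQ : ∀ i ∈ Q, eM ω (w i) (w i) * (A i * B i) * eM ω (w i) (w i) = C i ∧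
      eM ω (w i) (w i) * (B i * A i) * eM ω (w i) (w i) = ε i • C i)
    (hε : ∏ i, ε i = -1) : In M ((2 * c * c) • PM C) := by
  classical
  have hsq : ∀ X : Fin t → Matrix (Fin k) (Fin k) F, (∃ i, X i = 0) → PM X = 0 := fun X ⟨i, hi⟩ => PM_zero i hi
  obtain ⟨x, hx⟩ : ∃ x, x = c • PM A := ⟨_, rfl⟩
  obtain ⟨y, hy⟩ : ∃ y, y = c • PM B := ⟨_, rfl⟩
  have hxx : x * x = 0 := by rw [hx, smul_mul_smul_comm, PM_mul, hsq _ hAA, smul_zero]
  have hyy : y * y = 0 := by rw [hy, smul_mul_smul_comm, PM_mul, hsq _ hBB, smul_zero]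
  have hxyx : x * y * x = 0 := by
    rw [hx, hy, smul_mul_smul_comm, smul_mul_smul_comm, PM_mul, PM_mul, hsq _ hABA, smul_zero]
  have hyxy : y * x * y = 0 := by
    rw [hx, hy, smul_mul_smul_comm, smul_mul_smul_comm, PM_mul, PM_mul, hsq _ hBAB, smul_zero]
  rw [← hx] at hA
  rw [← hy] at hB
  have hz := hA.comm hB hxx hyy hxyx hyxy
  obtain ⟨z, hz'⟩ : ∃ z, z = x * y - y * x := ⟨_, rfl⟩
  have hzv : z = (c * c) • (PM (fun i => A i * B i) - PM (fun i => B i * A i)) := by
    rw [hz', hx, hy, smul_mul_smul_comm, smul_mul_smul_comm, PM_mul, PM_mul, smul_sub]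
  rw [← hz'] at hz
  obtain ⟨T, hT⟩ : ∃ T, T = sl a0 (C a0) := ⟨_, rfl⟩
  have hTT : T * T = 0 := by rw [hT, sl_mul, hC0, sl_zero]
  have hpull : ∀ (X : Fin t → Matrix (Fin k) (Fin k) F) (m : F), X a0 = m • C a0 →
      PM X = m • (T * PM (Function.update X a0 1)) ∧
        T * PM (Function.update X a0 1) = PM (Function.update X a0 1) * T := by
    intro X m hm
    constructor
    · rw [hT, ← smul_mul_assoc, ← sl_smul, ← hm, sl, PM_mul]
      congr 1
      funext i
      by_cases hi : i = a0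
      · subst hi; rw [Function.update_self, Function.update_self, mul_one]
      · rw [Function.update_of_ne hi, Function.update_of_ne hi, one_mul]
    · rw [hT, sl, PM_mul, PM_mul]
      congr 1
      funext i
      by_cases hi : i = a0
      · subst hi; rw [Function.update_self, Function.update_self, mul_one, one_mul]
      · rw [Function.update_of_ne hi, Function.update_of_ne hi, one_mul, mul_one]
  have hN : Nul T z := by
    obtain ⟨e1, e2⟩ := hpull (fun i => A i * B i) 1 (by rw [one_smul]; exact (hAB a0 ha0).1)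
    obtain ⟨e3, e4⟩ := hpull (fun i => B i * A i) (ε a0) (hAB a0 ha0).2
    rw [hzv, e1, e3]
    refine Nul.smul _ ?_
    rw [sub_eq_add_neg]
    exact (Nul.smul 1 ⟨_, rfl, e2⟩).add ((Nul.smul (ε a0) ⟨_, rfl, e4⟩).neg)
  have hiter : ∀ r ⊆ Q, In M (PM (onS r fun i => eM ω (w i) (w i)) * z * PM (onS r fun i => eM ω (w i) (w i))) ∧
      Nul T (PM (onS r fun i => eM ω (w i) (w i)) * z * PM (onS r fun i => eM ω (w i) (w i))) := by
    intro r
    induction r using Finset.induction_on with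
    | empty =>
      intro _
      have : onS (∅ : Finset (Fin t)) (fun i => eM ω (w i) (w i)) = fun _ => 1 := by funext i; simp [onS]
      rw [this, PM_one, one_mul, mul_one]
      exact ⟨hz, hN⟩
    | insert j r hj ih =>
      intro hr
      obtain ⟨ih1, ih2⟩ := ih fun i hi => hr (Finset.mem_insert_of_mem hi)
      have hja : j ≠ a0 := by
        rintro rfl
        exact ha0 (hr (Finset.mem_insert_self _ _))
      have h1 := onS_insert hj (fun i => eM ω (w i) (w i)) (eM ω (w j) (w j))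
      rw [show Function.update (fun i => eM ω (w i) (w i)) j (eM ω (w j) (w j)) = fun i => eM ω (w i) (w i) from
        Function.update_eq_self j (fun i => eM ω (w i) (w i))] at h1
      have hTD : T * sl j (eM ω (w j) (w j)) = sl j (eM ω (w j) (w j)) * T := by rw [hT]; exact sl_comm hja.symm _ _
      have h3 := dop (F := F) hp hTT hTD (by rw [sl_mul, eM_sq ω (hω _), sl_zero]) (hroot j (w j)) ih1 ih2
      have h4 : PM (onS (insert j r) fun i => eM ω (w i) (w i)) * z * PM (onS (insert j r) fun i => eM ω (w i) (w i))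
          = sl j (eM ω (w j) (w j)) *
            (PM (onS r fun i => eM ω (w i) (w i)) * z * PM (onS r fun i => eM ω (w i) (w i))) *
            sl j (eM ω (w j) (w j)) := by
        rw [h1]
        nth_rewrite 1 [sl_comm_onS hj]
        simp only [mul_assoc]
      rw [h4]
      exact ⟨h3.1, ih2.mid hTD hTD⟩
  have hfin := (hiter Q (Finset.Subset.refl _)).1
  have hval : PM (onS Q fun i => eM ω (w i) (w i)) * z * PM (onS Q fun i => eM ω (w i) (w i)) = (2 * c * c) • PM C := by
    have e1 : PM (onS Q fun i => eM ω (w i) (w i)) * PM (fun i => A i * B i) * PM (onS Q fun i => eM ω (w i) (w i))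
        = PM C := by
      rw [PM_mul, PM_mul]
      congr 1
      funext i
      by_cases hi : i ∈ Q
      · simp only [onS, if_pos hi]; exact (hQ i hi).1
      · simp only [onS, if_neg hi, one_mul, mul_one]; exact (hAB i hi).1
    have e2 : PM (onS Q fun i => eM ω (w i) (w i)) * PM (fun i => B i * A i) * PM (onS Q fun i => eM ω (w i) (w i))
        = (-1 : F) • PM C := by
      rw [← hε, ← PM_smul, PM_mul, PM_mul]
      congr 1
      funext i
      by_cases hi : i ∈ Q
      · simp only [onS, if_pos hi]; exact (hQ i hi).2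
      · simp only [onS, if_neg hi, one_mul, mul_one]; exact (hAB i hi).2
    rw [hzv, mul_smul_comm, smul_mul_assoc, mul_sub, sub_mul, e1, e2]
    refine LinearMap.ext fun x => ?_
    simp only [LinearMap.smul_apply, LinearMap.sub_apply]
    module
  rw [hval] at hfin
  exact hfin

/-- `c_v` on `I`, `1` elsewhere. -/
def dI (ω : (Fin k → F) →ₗ[F] (Fin k → F) →ₗ[F] F) (I : Finset (Fin t)) (u : Fin t → (Fin k → F)) :
    Fin t → Matrix (Fin k) (Fin k) F := fun i => if i ∈ I then eM ω (u i) (u i) else 1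

/-- The symmetries of `M` used to raise the level. -/
structure LevelHyp (ω : (Fin k → F) →ₗ[F] (Fin k → F) →ₗ[F] F)
    (M : Subgroup (Module.End F ((Fin t → Fin k) → F))ˣ) : Prop where
  pure_mem : ∀ g g' : Fin t → Matrix (Fin k) (Fin k) F, (∀ i, g i * g' i = 1) → (∀ i, g' i * g i = 1) →
    (∀ i x y, ω (g i *ᵥ x) (g i *ᵥ y) = ω x y) → ∃ u ∈ M, (u : Module.End F ((Fin t → Fin k) → F)) = PM g ∧
      ((u⁻¹ : (Module.End F ((Fin t → Fin k) → F))ˣ) : Module.End F ((Fin t → Fin k) → F)) = PM g'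
  perm_mem : ∀ σ : Equiv.Perm (Fin t), ∃ u ∈ M, ∀ A : Fin t → Matrix (Fin k) (Fin k) F,
    (u : Module.End F ((Fin t → Fin k) → F)) * PM A = PM (fun i => A (σ i)) * u

theorem In.conj_pure (hM : LevelHyp ω M) {g g' : Fin t → Matrix (Fin k) (Fin k) F} (h1 : ∀ i, g i * g' i = 1)
    (h2 : ∀ i, g' i * g i = 1) (h3 : ∀ i x y, ω (g i *ᵥ x) (g i *ᵥ y) = ω x y) {A : Fin t → Matrix (Fin k) (Fin k) F}
    {c : F} (hA : In M (c • PM A)) : In M (c • PM fun i => g i * A i * g' i) := by
  obtain ⟨u, hu, hu1, hu2⟩ := hM.pure_mem g g' h1 h2 h3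
  have h4 := hA.conj hu
  rwa [hu1, hu2, mul_smul_comm, smul_mul_assoc, PM_mul, PM_mul] at h4

theorem In.conj_perm (hM : LevelHyp ω M) (σ : Equiv.Perm (Fin t)) {A : Fin t → Matrix (Fin k) (Fin k) F}
    {c : F} (hA : In M (c • PM A)) : In M (c • PM fun i => A (σ i)) := by
  obtain ⟨u, hu, hu1⟩ := hM.perm_mem σ
  have h4 := hA.conj hu
  rwa [mul_smul_comm, smul_mul_assoc, hu1, mul_assoc, Units.mul_inv, mul_one] at h4

/-- The isometry `1 + l c_x`. -/
theorem isom_tv (hω : ∀ w, ω w w = 0) (x : Fin k → F) (l : F) :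
    (1 + l • eM ω x x) * (1 - l • eM ω x x) = 1 ∧ (1 - l • eM ω x x) * (1 + l • eM ω x x) = 1 ∧
    ∀ a b, ω ((1 + l • eM ω x x) *ᵥ a) ((1 + l • eM ω x x) *ᵥ b) = ω a b := by
  have h := eM_sq ω (hω x)
  have skew : ∀ a b, ω a b = - ω b a := by
    intro x y
    have h := hω (x + y)
    simp only [map_add, LinearMap.add_apply, hω, zero_add, add_zero] at h
    exact eq_neg_of_add_eq_zero_left (by rw [add_comm]; exact h)
  refine ⟨?_, ?_, fun a b => ?_⟩
  · rw [add_mul, mul_sub, mul_sub, smul_mul_smul_comm, h]; simp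
  · rw [sub_mul, mul_add, mul_add, smul_mul_smul_comm, h]; simp
  · simp only [Matrix.add_mulVec, Matrix.one_mulVec, Matrix.smul_mulVec, eM_mulVec, map_add, map_smul,
      LinearMap.add_apply, LinearMap.smul_apply, hω, smul_eq_mul, skew a x]
    ring

theorem exists_isom (hω : ∀ w, ω w w = 0)
    (hex : ∀ u v : Fin k → F, u ≠ 0 → v ≠ 0 → ∃ x, ω u x ≠ 0 ∧ ω v x ≠ 0) {u u' : Fin k → F} (hu : u ≠ 0)
    (hu' : u' ≠ 0) : ∃ g g' : Matrix (Fin k) (Fin k) F, g * g' = 1 ∧ g' * g = 1 ∧
      (∀ x y, ω (g *ᵥ x) (g *ᵥ y) = ω x y) ∧ g *ᵥ u = u' := by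
  have skew : ∀ a b, ω a b = - ω b a := by
    intro x y
    have h := hω (x + y)
    simp only [map_add, LinearMap.add_apply, hω, zero_add, add_zero] at h
    exact eq_neg_of_add_eq_zero_left (by rw [add_comm]; exact h)
  have key : ∀ u u' : Fin k → F, ω u u' ≠ 0 → ∃ g g' : Matrix (Fin k) (Fin k) F, g * g' = 1 ∧ g' * g = 1 ∧
      (∀ x y, ω (g *ᵥ x) (g *ᵥ y) = ω x y) ∧ g *ᵥ u = u' := by
    intro u u' h
    obtain ⟨h1, h2, h3⟩ := isom_tv hω (u' - u) (-(ω u u')⁻¹)
    refine ⟨_, _, h1, h2, h3, ?_⟩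
    rw [Matrix.add_mulVec, Matrix.one_mulVec, Matrix.smul_mulVec, eM_mulVec, map_sub, LinearMap.sub_apply, hω, sub_zero,
      skew u' u, smul_smul, neg_mul_neg, inv_mul_cancel₀ h, one_smul, add_sub_cancel]
  obtain ⟨x, hx1, hx2⟩ := hex u u' hu hu'
  obtain ⟨g, g', h1, h2, h3, h4⟩ := key u x hx1
  obtain ⟨g1, g1', h1', h2', h3', h4'⟩ := key x u' (by rw [skew]; exact neg_ne_zero.2 hx2)
  refine ⟨g1 * g, g' * g1', ?_, ?_, fun x y => ?_, ?_⟩
  · rw [mul_assoc, ← mul_assoc g, h1, one_mul, h1']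
  · rw [mul_assoc, ← mul_assoc g1', h2', one_mul, h2]
  · rw [← Matrix.mulVec_mulVec, ← Matrix.mulVec_mulVec, h3', h3]
  · rw [← Matrix.mulVec_mulVec, h4, h4']

theorem conj_eM {g g' : Matrix (Fin k) (Fin k) F} (h1 : g * g' = 1) (h3 : ∀ x y, ω (g *ᵥ x) (g *ᵥ y) = ω x y)
    (a b : Fin k → F) : g * eM ω a b * g' = eM ω (g *ᵥ a) (g *ᵥ b) := by
  refine mat_ext fun x => ?_
  rw [← Matrix.mulVec_mulVec, ← Matrix.mulVec_mulVec, eM_mulVec, eM_mulVec, Matrix.mulVec_smul]
  congr 1
  rw [← h3 b (g' *ᵥ x), Matrix.mulVec_mulVec, h1, Matrix.one_mulVec]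

/-- `1 + c (⊗_{i ∈ I} c_{u i}) ∈ M` for all nonzero `u i`. -/
def HasD (ω : (Fin k → F) →ₗ[F] (Fin k → F) →ₗ[F] F) (M : Subgroup (Module.End F ((Fin t → Fin k) → F))ˣ)
    (c : F) (I : Finset (Fin t)) : Prop :=
  ∀ u : Fin t → (Fin k → F), (∀ i, u i ≠ 0) → In M (c • PM (dI ω I u))

theorem hasD_of (hM : LevelHyp ω M) (hω : ∀ w, ω w w = 0)
    (hex : ∀ u v : Fin k → F, u ≠ 0 → v ≠ 0 → ∃ x, ω u x ≠ 0 ∧ ω v x ≠ 0) {c : F} {I : Finset (Fin t)}
    {u : Fin t → (Fin k → F)} (hu : ∀ i ∈ I, u i ≠ 0) (h : In M (c • PM (dI ω I u))) : HasD ω M c I := by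
  intro u' hu'
  have h1 : ∀ i, ∃ gg : Matrix (Fin k) (Fin k) F × Matrix (Fin k) (Fin k) F, gg.1 * gg.2 = 1 ∧ gg.2 * gg.1 = 1 ∧
      (∀ x y, ω (gg.1 *ᵥ x) (gg.1 *ᵥ y) = ω x y) ∧ (i ∈ I → gg.1 *ᵥ u i = u' i) := by
    intro i
    by_cases hi : i ∈ I
    · obtain ⟨g, g', h1, h2, h3, h4⟩ := exists_isom hω hex (hu i hi) (hu' i)
      exact ⟨(g, g'), h1, h2, h3, fun _ => h4⟩
    · exact ⟨(1, 1), mul_one _, mul_one _, fun x y => by rw [Matrix.one_mulVec, Matrix.one_mulVec], fun h => absurd h hi⟩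
  choose gg h1 h2 h3 h4 using h1
  have h5 := h.conj_pure hM h1 h2 h3
  have h6 : (fun i => (gg i).1 * dI ω I u i * (gg i).2) = dI ω I u' := by
    funext i
    by_cases hi : i ∈ I
    · simp only [dI, if_pos hi]
      rw [conj_eM (h1 i) (h3 i), h4 i hi]
    · simp only [dI, if_neg hi, mul_one, h1]
  rwa [h6] at h5

theorem hasD_perm (hM : LevelHyp ω M) {c : F} {I I' : Finset (Fin t)} (hc : I.card = I'.card) (h : HasD ω M c I) :
    HasD ω M c I' := by
  intro u' hu'
  have e : {i // i ∈ I'} ≃ {i // i ∈ I} := Fintype.equivOfCardEq (by simp [hc])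
  let σ : Equiv.Perm (Fin t) := e.extendSubtype
  have h1 := (h (fun i => u' (σ.symm i)) fun i => hu' _).conj_perm hM σ
  have h2 : (fun i => dI ω I (fun i => u' (σ.symm i)) (σ i)) = dI ω I' u' := by
    funext i
    have h3 : σ i ∈ I ↔ i ∈ I' := by
      constructor
      · intro hi
        by_contra hi'
        exact (e.extendSubtype_not_mem i hi') hi
      · intro hi
        exact e.extendSubtype_mem i hi
    simp only [dI, h3, Equiv.symm_apply_apply]
  rwa [h2] at h1

/-- Raising the level by two. -/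
theorem hasD_step [NeZero k] {p : ℕ} [CharP F p] (hp : Odd p) (hM : LevelHyp ω M) (hω : ∀ w, ω w w = 0)
    (hn : ∀ w, (∀ x, ω w x = 0) → w = 0) (hroot : ∀ j v, In M (sl j (eM ω v v))) {c : F} {n : ℕ}
    (hodd : Odd n) (h3 : 3 ≤ n) (h : ∀ I : Finset (Fin t), I.card = n → HasD ω M c I) {I' : Finset (Fin t)}
    (hI' : I'.card = n + 2) : HasD ω M (2 * c * c) I' := by
  classical
  have skew : ∀ a b, ω a b = - ω b a := by
    intro x y
    have h := hω (x + y)
    simp only [map_add, LinearMap.add_apply, hω, zero_add, add_zero] at h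
    exact eq_neg_of_add_eq_zero_left (by rw [add_comm]; exact h)
  intro u hu
  -- four distinct members of `I'`
  obtain ⟨J, hJ, hJ4⟩ := Finset.exists_subset_card_eq (show 4 ≤ I'.card by omega)
  obtain ⟨J1, hJ1, hJ12⟩ := Finset.exists_subset_card_eq (show 2 ≤ J.card by omega)
  have hJ2 : (J \ J1).card = 2 := by rw [Finset.card_sdiff_of_subset hJ1]; omega
  have hQc : (I' \ J).card = n - 2 := by rw [Finset.card_sdiff_of_subset hJ]; omega
  -- the vectors for the other slots
  have hf : ∀ i, ∃ f, ω (u i) f = 1 := by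
    intro i
    by_contra hcon
    push Not at hcon
    refine hu i (hn _ fun x => ?_)
    by_contra hx
    refine hcon ((ω (u i) x)⁻¹ • x) ?_
    rw [map_smul, smul_eq_mul, inv_mul_cancel₀ hx]
  choose f hf using hf
  have hf0 : ∀ i, f i ≠ 0 := by
    intro i h0
    have := hf i
    rw [h0, map_zero] at this
    exact zero_ne_one this
  have hf0' : ∀ i, -u i - f i ≠ 0 := by
    intro i h0
    have h1 : ω (-u i - f i) (f i) = 0 := by rw [h0, map_zero, LinearMap.zero_apply]
    rw [map_sub, map_neg, LinearMap.sub_apply, LinearMap.neg_apply, hf, hω, sub_zero] at h1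
    exact one_ne_zero (neg_eq_zero.1 h1)
  have hx : In M (c • PM (dI ω ((I' \ J) ∪ J1) fun i => if i ∈ I' \ J then f i else u i)) := by
    refine h _ ?_ _ fun i => ?_
    · rw [Finset.card_union_of_disjoint, hQc, hJ12]
      · omega
      · refine Finset.disjoint_left.2 fun i hi hi' => ?_
        exact (Finset.mem_sdiff.1 hi).2 (hJ1 hi')
    · split_ifs
      · exact hf0 i
      · exact hu i
  have hy : In M (c • PM (dI ω ((I' \ J) ∪ (J \ J1)) fun i => if i ∈ I' \ J then -u i - f i else u i)) := by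
    refine h _ ?_ _ fun i => ?_
    · rw [Finset.card_union_of_disjoint, hQc, hJ2]
      · omega
      · refine Finset.disjoint_left.2 fun i hi hi' => ?_
        exact (Finset.mem_sdiff.1 hi).2 (Finset.mem_sdiff.1 hi').1
    · split_ifs
      · exact hf0' i
      · exact hu i
  obtain ⟨a, ha⟩ : J1.Nonempty := by rw [← Finset.card_pos]; omega
  obtain ⟨b, hb⟩ : (J \ J1).Nonempty := by rw [← Finset.card_pos]; omega
  have haJ : a ∈ J := hJ1 ha
  have hbJ : b ∈ J := (Finset.mem_sdiff.1 hb).1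
  have hb1 : b ∉ J1 := (Finset.mem_sdiff.1 hb).2
  have haI : a ∈ I' := hJ haJ
  have hbI : b ∈ I' := hJ hbJ
  refine key hp hω hroot (A := dI ω ((I' \ J) ∪ J1) fun i => if i ∈ I' \ J then f i else u i)
    (B := dI ω ((I' \ J) ∪ (J \ J1)) fun i => if i ∈ I' \ J then -u i - f i else u i)
    (ε := fun i => if i ∈ I' \ J then -1 else 1) (Q := I' \ J) (w := u) (a0 := a) ?_ ?_ hx hy ?_ ?_ ?_ ?_ ?_ ?_ ?_
  · intro h; exact (Finset.mem_sdiff.1 h).2 haJ
  · simp only [dI, if_pos haI]
    exact eM_sq ω (hω _)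
  · refine ⟨a, ?_⟩
    have h1 : a ∈ (I' \ J) ∪ J1 := Finset.mem_union_right _ ha
    simp only [dI, if_pos h1]
    exact eM_sq ω (hω _)
  · refine ⟨b, ?_⟩
    have h1 : b ∈ (I' \ J) ∪ (J \ J1) := Finset.mem_union_right _ hb
    simp only [dI, if_pos h1]
    exact eM_sq ω (hω _)
  · refine ⟨a, ?_⟩
    have h1 : a ∈ (I' \ J) ∪ J1 := Finset.mem_union_right _ ha
    have h2 : a ∉ (I' \ J) ∪ (J \ J1) := by
      simp only [Finset.mem_union, Finset.mem_sdiff, haJ, ha, not_true, and_false, or_false, not_false_iff]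
    simp only [dI, if_pos h1, if_neg h2, mul_one]
    exact eM_sq ω (hω _)
  · refine ⟨b, ?_⟩
    have h1 : b ∈ (I' \ J) ∪ (J \ J1) := Finset.mem_union_right _ hb
    have h2 : b ∉ (I' \ J) ∪ J1 := by
      simp only [Finset.mem_union, Finset.mem_sdiff, hbJ, hb1, not_true, and_false, or_false, not_false_iff]
    simp only [dI, if_pos h1, if_neg h2, mul_one]
    exact eM_sq ω (hω _)
  · intro i hi
    simp only [if_neg hi, one_smul]
    by_cases hiI : i ∈ I'
    · have hiJ : i ∈ J := by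
        by_contra h
        exact hi (Finset.mem_sdiff.2 ⟨hiI, h⟩)
      by_cases hi1 : i ∈ J1
      · have h1 : i ∈ (I' \ J) ∪ J1 := Finset.mem_union_right _ hi1
        have h2 : i ∉ (I' \ J) ∪ (J \ J1) := by
          simp only [Finset.mem_union, Finset.mem_sdiff, hiJ, hi1, not_true, and_false, or_false, not_false_iff]
        simp only [dI, if_pos h1, if_neg h2, if_pos hiI, if_neg hi, mul_one, one_mul, and_self]
      · have h1 : i ∈ (I' \ J) ∪ (J \ J1) := Finset.mem_union_right _ (Finset.mem_sdiff.2 ⟨hiJ, hi1⟩)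
        have h2 : i ∉ (I' \ J) ∪ J1 := by
          simp only [Finset.mem_union, Finset.mem_sdiff, hiJ, hi1, not_true, and_false, or_false, not_false_iff]
        simp only [dI, if_pos h1, if_neg h2, if_pos hiI, if_neg hi, mul_one, one_mul, and_self]
    · have h1 : i ∉ (I' \ J) ∪ (J \ J1) := by
        intro h
        rcases Finset.mem_union.1 h with h | h
        · exact hi h
        · exact hiI (hJ (Finset.mem_sdiff.1 h).1)
      have h2 : i ∉ (I' \ J) ∪ J1 := by
        intro h
        rcases Finset.mem_union.1 h with h | h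
        · exact hi h
        · exact hiI (hJ (hJ1 h))
      simp only [dI, if_neg h1, if_neg h2, if_neg hiI, mul_one, and_self]
  · intro i hi
    have hiI : i ∈ I' := (Finset.mem_sdiff.1 hi).1
    have h1 : i ∈ (I' \ J) ∪ (J \ J1) := Finset.mem_union_left _ hi
    have h2 : i ∈ (I' \ J) ∪ J1 := Finset.mem_union_left _ hi
    have hfu : ω (f i) (u i) = -1 := by rw [skew, hf]
    simp only [dI, if_pos h1, if_pos h2, if_pos hiI, if_pos hi]
    simp only [eM_mul, smul_mul_assoc, mul_smul_comm, map_sub, map_neg, LinearMap.sub_apply, LinearMap.neg_apply, hf,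
      hfu, hω, smul_smul]
    constructor
    · norm_num
    · norm_num
  · rw [Finset.prod_ite, Finset.prod_const, Finset.prod_const_one, mul_one]
    have h1 : (Finset.univ.filter fun i => i ∈ I' \ J) = I' \ J := by
      ext i
      simp only [Finset.mem_filter, Finset.mem_univ, true_and]
    rw [h1, hQc]
    exact Odd.neg_one_pow (by obtain ⟨m, hm⟩ := hodd; exact ⟨m - 1, by omega⟩)

end Slots

end Cfsg.Agent.H874
end

-- part: H874/LevelD
section
/-!
# Raising the level: bivectors, and the final level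
-/

set_option autoImplicit false
set_option linter.unusedSimpArgs false
set_option linter.unusedVariables false
set_option linter.unusedSectionVars false

namespace Cfsg.Agent.H874

open Matrix Cfsg.Agent.H889

variable {F : Type*} [Field F] {k t : ℕ}

section Slots

variable {ω : (Fin k → F) →ₗ[F] (Fin k → F) →ₗ[F] F} {M : Subgroup (Module.End F ((Fin t → Fin k) → F))ˣ}

theorem skew_of_alt (hω : ∀ w, ω w w = 0) (a b : Fin k → F) : ω a b = - ω b a := by
  have h := hω (a + b)
  simp only [map_add, LinearMap.add_apply, hω, zero_add, add_zero] at h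
  exact eq_neg_of_add_eq_zero_left (by rw [add_comm]; exact h)

theorem exists_one (hn : ∀ w, (∀ x, ω w x = 0) → w = 0) {u : Fin k → F} (hu : u ≠ 0) : ∃ f, ω u f = 1 := by
  by_contra hcon
  push Not at hcon
  refine hu (hn _ fun x => ?_)
  by_contra hx
  refine hcon ((ω u x)⁻¹ • x) ?_
  rw [map_smul, smul_eq_mul, inv_mul_cancel₀ hx]

/-- A root slot. -/
theorem slotI (hω : ∀ w, ω w w = 0) (hn : ∀ w, (∀ x, ω w x = 0) → w = 0)
    (hex : ∀ u v : Fin k → F, u ≠ 0 → v ≠ 0 → ∃ x, ω u x ≠ 0 ∧ ω v x ≠ 0) {p : Fin k → F} (hp : p ≠ 0) :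
    ∃ (g g' : Matrix (Fin k) (Fin k) F) (w p' : Fin k → F), g * g' = 1 ∧ g' * g = 1 ∧
      (∀ x y, ω (g *ᵥ x) (g *ᵥ y) = ω x y) ∧ w ≠ 0 ∧ p' ≠ 0 ∧ g * eM ω p p * g' = eM ω p' p' ∧
      eM ω w w * (eM ω p p * eM ω p' p') * eM ω w w = eM ω w w ∧
      eM ω w w * (eM ω p' p' * eM ω p p) * eM ω w w = (-1 : F) • eM ω w w := by
  obtain ⟨f, hf⟩ := exists_one hn hp
  have hfp : ω f p = -1 := by rw [skew_of_alt hω, hf]
  have hf0 : f ≠ 0 := by
    rintro rfl
    rw [map_zero] at hf
    exact zero_ne_one hf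
  have hp'0 : f - p ≠ 0 := by
    intro h
    have h1 : ω (f - p) p = 0 := by rw [h, map_zero, LinearMap.zero_apply]
    rw [map_sub, LinearMap.sub_apply, hω, hfp, sub_zero] at h1
    exact one_ne_zero (neg_eq_zero.1 h1)
  obtain ⟨g, g', h1, h2, h3, h4⟩ := exists_isom hω hex hp hp'0
  refine ⟨g, g', -f, f - p, h1, h2, h3, neg_ne_zero.2 hf0, hp'0, ?_, ?_, ?_⟩
  · rw [conj_eM h1 h3, h4]
  · simp only [eM_mul, smul_mul_assoc, mul_smul_comm, map_sub, map_neg, LinearMap.sub_apply, LinearMap.neg_apply, hf,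
      hfp, hω, smul_smul]
    norm_num
  · simp only [eM_mul, smul_mul_assoc, mul_smul_comm, map_sub, map_neg, LinearMap.sub_apply, LinearMap.neg_apply, hf,
      hfp, hω, smul_smul]
    norm_num

/-- A bivector slot. -/
theorem slotJ (hω : ∀ w, ω w w = 0) (hn : ∀ w, (∀ x, ω w x = 0) → w = 0) {u v : Fin k → F} (huv : ω u v = 0)
    (hlin : ∀ a : F, v ≠ a • u) (hu : u ≠ 0) :
    ∃ (g g' B : Matrix (Fin k) (Fin k) F), g * g' = 1 ∧ g' * g = 1 ∧
      (∀ x y, ω (g *ᵥ x) (g *ᵥ y) = ω x y) ∧ g * (eM ω u v - eM ω v u) * g' = B ∧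
      (eM ω u v - eM ω v u) * B = eM ω v v ∧ B * (eM ω u v - eM ω v u) = (-1 : F) • eM ω v v ∧
      (eM ω u v - eM ω v u) * (eM ω u v - eM ω v u) = 0 ∧ B * B = 0 ∧
      (eM ω u v - eM ω v u) * B * (eM ω u v - eM ω v u) = 0 ∧ B * (eM ω u v - eM ω v u) * B = 0 := by
  have hvu : ω v u = 0 := by rw [skew_of_alt hω, huv, neg_zero]
  have hv : v ≠ 0 := by
    rintro rfl
    exact hlin 0 (by rw [zero_smul])
  have hlin' : ∀ a : F, u ≠ a • v := by
    intro a h
    have ha : a ≠ 0 := by
      rintro rfl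
      exact hu (by rw [h, zero_smul])
    exact hlin a⁻¹ (by rw [h, smul_smul, inv_mul_cancel₀ ha, one_smul])
  obtain ⟨b', hb1, hb2⟩ : ∃ b', ω v b' = 0 ∧ ω b' u = 1 := by
    -- as in `Slot.exists_perp_pair`
    obtain ⟨z, hz⟩ := exists_one hn hv
    by_contra hcon
    push Not at hcon
    have h0 : ∀ x, ω v x = 0 → ω x u = 0 := by
      intro x hx
      by_contra hxu
      refine hcon ((ω x u)⁻¹ • x) ?_ ?_
      · rw [map_smul, hx, smul_zero]
      · rw [map_smul, LinearMap.smul_apply, smul_eq_mul, inv_mul_cancel₀ hxu]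
    refine hlin' (- ω z u) ?_
    rw [← sub_eq_zero]
    refine hn _ fun x => ?_
    have h1 := h0 (x - ω v x • z) (by rw [map_sub, map_smul, hz, smul_eq_mul, mul_one, sub_self])
    rw [map_sub, LinearMap.sub_apply, map_smul, LinearMap.smul_apply, smul_eq_mul] at h1
    rw [map_sub, LinearMap.sub_apply, map_smul, LinearMap.smul_apply, smul_eq_mul, skew_of_alt hω u x]
    linear_combination -h1
  have hf1 : ω u (-b') = 1 := by rw [map_neg, skew_of_alt hω, hb2, neg_neg]
  have hf2 : ω v (-b') = 0 := by rw [map_neg, hb1, neg_zero]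
  generalize -b' = f at hf1 hf2
  have hf1' : ω f u = -1 := by rw [skew_of_alt hω, hf1]
  have hf2' : ω f v = 0 := by rw [skew_of_alt hω, hf2, neg_zero]
  obtain ⟨h1, h2, h3⟩ := isom_tv hω f 1
  have gu : (1 + (1 : F) • eM ω f f) *ᵥ u = u - f := by
    rw [Matrix.add_mulVec, Matrix.one_mulVec, Matrix.smul_mulVec, eM_mulVec, hf1', one_smul, neg_smul, one_smul,
      sub_eq_add_neg]
  have gv : (1 + (1 : F) • eM ω f f) *ᵥ v = v := by
    rw [Matrix.add_mulVec, Matrix.one_mulVec, Matrix.smul_mulVec, eM_mulVec, hf2', zero_smul, smul_zero, add_zero]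
  refine ⟨_, _, eM ω (u - f) v - eM ω v (u - f), h1, h2, h3, ?_, ?_, ?_, ?_, ?_, ?_, ?_⟩
  · rw [mul_sub _ (eM ω u v), sub_mul, conj_eM h1 h3, conj_eM h1 h3, gu, gv]
  all_goals
    simp only [mul_sub, sub_mul, eM_mul, smul_mul_assoc, mul_smul_comm, map_sub, LinearMap.sub_apply, huv, hvu, hf1,
      hf2, hf1', hf2', hω, zero_smul, smul_zero, sub_zero, zero_sub, zero_mul, mul_zero, neg_smul, one_smul, neg_neg,
      neg_zero, sub_self, sub_neg_eq_add, zero_add, neg_mul, mul_neg]

/-- Bad pure elements with a bivector slot. -/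
theorem hasD_of_bivector [NeZero k] {p : ℕ} [CharP F p] (hp : Odd p) (hM : LevelHyp ω M) (hω : ∀ w, ω w w = 0)
    (hn : ∀ w, (∀ x, ω w x = 0) → w = 0)
    (hex : ∀ u v : Fin k → F, u ≠ 0 → v ≠ 0 → ∃ x, ω u x ≠ 0 ∧ ω v x ≠ 0)
    (hroot : ∀ j v, In M (sl j (eM ω v v))) (ht : Odd t) {A : Fin t → Matrix (Fin k) (Fin k) F} {c : F} (hc : c ≠ 0)
    (hA : In M (c • PM A)) {I J : Finset (Fin t)} (hIJ : Disjoint I J)
    (hI : ∀ i ∈ I, ∃ v, v ≠ 0 ∧ A i = eM ω v v)
    (hJ : ∀ i ∈ J, ∃ u v, ω u v = 0 ∧ (∀ a : F, v ≠ a • u) ∧ u ≠ 0 ∧ A i = eM ω u v - eM ω v u)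
    (hK : ∀ i, i ∉ I → i ∉ J → A i = 1) (hIodd : Odd I.card) (hJ0 : J.Nonempty) :
    ∃ (c' : F) (n : ℕ), c' ≠ 0 ∧ Odd n ∧ 3 ≤ n ∧ n ≤ t ∧ ∀ I' : Finset (Fin t), I'.card = n → HasD ω M c' I' := by
  classical
  have h2 : (2 : F) ≠ 0 := by
    intro h
    have h3 : ((2 : ℕ) : F) = 0 := by exact_mod_cast h
    rw [CharP.cast_eq_zero_iff F p] at h3
    obtain ⟨m, hm⟩ := hp
    have h4 := Nat.le_of_dvd (by norm_num) h3
    have h5 : p ≠ 1 := CharP.char_ne_one F p
    omega
  have hc' : 2 * c * c ≠ 0 := mul_ne_zero (mul_ne_zero h2 hc) hc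
  -- the data in each slot
  have hdata : ∀ i, ∃ (g g' : Matrix (Fin k) (Fin k) F) (w p' : Fin k → F), g * g' = 1 ∧ g' * g = 1 ∧
      (∀ x y, ω (g *ᵥ x) (g *ᵥ y) = ω x y) ∧
      (i ∈ I → w ≠ 0 ∧ p' ≠ 0 ∧ g * A i * g' = eM ω p' p' ∧
        eM ω w w * (A i * (g * A i * g')) * eM ω w w = eM ω w w ∧
        eM ω w w * ((g * A i * g') * A i) * eM ω w w = (-1 : F) • eM ω w w) ∧
      (i ∈ J → w ≠ 0 ∧ A i * (g * A i * g') = eM ω w w ∧ (g * A i * g') * A i = (-1 : F) • eM ω w w ∧
        A i * A i = 0 ∧ (g * A i * g') * (g * A i * g') = 0 ∧ A i * (g * A i * g') * A i = 0 ∧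
        (g * A i * g') * A i * (g * A i * g') = 0) ∧
      (i ∉ I → i ∉ J → g = 1 ∧ g' = 1) := by
    intro i
    by_cases hi : i ∈ I
    · obtain ⟨v, hv, hAv⟩ := hI i hi
      obtain ⟨g, g', w, p', h1, h2, h3, h4, h5, h6, h7, h8⟩ := slotI hω hn hex hv
      refine ⟨g, g', w, p', h1, h2, h3, fun _ => ?_, fun hiJ => absurd hiJ (Finset.disjoint_left.1 hIJ hi),
        fun h => absurd hi h⟩
      rw [hAv, h6]
      exact ⟨h4, h5, rfl, h7, h8⟩
    by_cases hi' : i ∈ J
    · obtain ⟨u, v, huv, hlin, hu, hAv⟩ := hJ i hi'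
      obtain ⟨g, g', B, h1, h2, h3, h4, h5, h6, h7, h8, h9, h10⟩ := slotJ hω hn huv hlin hu
      refine ⟨g, g', v, v, h1, h2, h3, fun h => absurd h hi, fun _ => ?_, fun _ h => absurd hi' h⟩
      rw [hAv, h4]
      exact ⟨fun h => hlin 0 (by rw [h, zero_smul]), h5, h6, h7, h8, h9, h10⟩
    · exact ⟨1, 1, 0, 0, mul_one _, mul_one _, fun x y => by rw [Matrix.one_mulVec, Matrix.one_mulVec],
        fun h => absurd h hi, fun h => absurd h hi', fun _ _ => ⟨rfl, rfl⟩⟩
  choose g g' w p' hg1 hg2 hg3 hgI hgJ hgK using hdata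
  have hB := hA.conj_pure hM hg1 hg2 hg3
  obtain ⟨a0, ha0⟩ := hJ0
  have ha0I : a0 ∉ I := Finset.disjoint_right.1 hIJ ha0
  have hcard : I.card + J.card ≤ t := by
    rw [← Finset.card_union_of_disjoint hIJ]
    exact (Finset.card_le_univ _).trans (by rw [Fintype.card_fin])
  have hJpos : 0 < J.card := Finset.card_pos.2 ⟨a0, ha0⟩
  have hw0 : ∀ i ∈ I ∪ J, w i ≠ 0 := by
    intro i hi
    rcases Finset.mem_union.1 hi with h | h
    · exact (hgI i h).1
    · exact (hgJ i h).1
  by_cases hJe : Even J.card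
  · -- no swap
    have hres : In M ((2 * c * c) • PM (dI ω (I ∪ J) w)) := by
      refine key hp hω hroot (A := A) (B := fun i => g i * A i * g' i)
        (ε := fun i => if i ∈ I ∪ J then -1 else 1) (Q := I) (w := w) (a0 := a0) ha0I ?_ hA hB
        ⟨a0, (hgJ a0 ha0).2.2.2.1⟩ ⟨a0, (hgJ a0 ha0).2.2.2.2.1⟩ ⟨a0, (hgJ a0 ha0).2.2.2.2.2.1⟩
        ⟨a0, (hgJ a0 ha0).2.2.2.2.2.2⟩ ?_ ?_ ?_
      · have h1 : a0 ∈ I ∪ J := Finset.mem_union_right _ ha0
        simp only [dI, if_pos h1]
        exact eM_sq ω (hω _)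
      · intro i hi
        by_cases hiJ : i ∈ J
        · have h1 : i ∈ I ∪ J := Finset.mem_union_right _ hiJ
          simp only [dI, if_pos h1]
          exact ⟨(hgJ i hiJ).2.1, (hgJ i hiJ).2.2.1⟩
        · have h1 : i ∉ I ∪ J := fun h => (Finset.mem_union.1 h).elim hi hiJ
          simp only [dI, if_neg h1, hK i hi hiJ, (hgK i hi hiJ).1, (hgK i hi hiJ).2, mul_one, one_smul, and_self]
      · intro i hi
        have h1 : i ∈ I ∪ J := Finset.mem_union_left _ hi
        simp only [dI, if_pos h1]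
        exact ⟨(hgI i hi).2.2.2.1, (hgI i hi).2.2.2.2⟩
      · rw [Finset.prod_ite, Finset.prod_const, Finset.prod_const_one, mul_one]
        have h1 : (Finset.univ.filter fun i => i ∈ I ∪ J) = I ∪ J := by
          ext i
          simp only [Finset.mem_filter, Finset.mem_univ, true_and]
        rw [h1, Finset.card_union_of_disjoint hIJ]
        exact Odd.neg_one_pow (hIodd.add_even hJe)
    have h1 := hasD_of hM hω hex hw0 hres
    refine ⟨2 * c * c, (I ∪ J).card, hc', ?_, ?_, ?_, fun I' hI' => hasD_perm hM hI'.symm h1⟩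
    · rw [Finset.card_union_of_disjoint hIJ]; exact hIodd.add_even hJe
    · rw [Finset.card_union_of_disjoint hIJ]
      obtain ⟨m, hm⟩ := hIodd
      obtain ⟨m', hm'⟩ := hJe
      omega
    · rw [Finset.card_union_of_disjoint hIJ]; exact hcard
  · -- swap `a ∈ I` and `b ∉ I ∪ J`
    have hJo : Odd J.card := Nat.not_even_iff_odd.1 hJe
    obtain ⟨a, ha⟩ : I.Nonempty := by
      rw [← Finset.card_pos]
      obtain ⟨m, hm⟩ := hIodd
      omega
    obtain ⟨b, hb⟩ : ∃ b, b ∉ I ∪ J := by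
      by_contra hcon
      push Not at hcon
      have h1 : I ∪ J = Finset.univ := Finset.eq_univ_iff_forall.2 hcon
      have h3 : (I ∪ J).card = t := by rw [h1, Finset.card_univ, Fintype.card_fin]
      rw [Finset.card_union_of_disjoint hIJ] at h3
      obtain ⟨m, hm⟩ := hIodd
      obtain ⟨m', hm'⟩ := hJo
      obtain ⟨m'', hm''⟩ := ht
      omega
    have hbI : b ∉ I := fun h => hb (Finset.mem_union_left _ h)
    have hbJ : b ∉ J := fun h => hb (Finset.mem_union_right _ h)
    have haJ : a ∉ J := Finset.disjoint_left.1 hIJ ha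
    have hab : a ≠ b := fun h => hbI (h ▸ ha)
    have ha0a : a0 ≠ a := fun h => haJ (h ▸ ha0)
    have ha0b : a0 ≠ b := fun h => hbJ (h ▸ ha0)
    have hB' := hB.conj_perm hM (Equiv.swap a b)
    obtain ⟨va, hva, hAa⟩ := hI a ha
    have hBa : (g a * A a * g' a) = eM ω (p' a) (p' a) := (hgI a ha).2.2.1
    have hBb : (g b * A b * g' b) = 1 := by rw [hK b hbI hbJ, (hgK b hbI hbJ).1, (hgK b hbI hbJ).2, mul_one, mul_one]
    have sw : ∀ i, i ≠ a → i ≠ b → Equiv.swap a b i = i := fun i h1 h2 => Equiv.swap_apply_of_ne_of_ne h1 h2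
    let w' : Fin t → (Fin k → F) := fun i => if i = a then va else if i = b then p' a else w i
    have hres : In M ((2 * c * c) • PM (dI ω (insert b (I ∪ J)) w')) := by
      refine key hp hω hroot (A := A) (B := fun i => g (Equiv.swap a b i) * A (Equiv.swap a b i) * g' (Equiv.swap a b i))
        (ε := fun i => if i ∈ I.erase a ∪ J then -1 else 1) (Q := I.erase a) (w := w) (a0 := a0)
        (fun h => ha0I (Finset.mem_of_mem_erase h)) ?_ hA hB'
        ⟨a0, (hgJ a0 ha0).2.2.2.1⟩ ⟨a0, ?_⟩ ⟨a0, ?_⟩ ⟨a0, ?_⟩ ?_ ?_ ?_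
      · have h1 : a0 ∈ insert b (I ∪ J) := Finset.mem_insert_of_mem (Finset.mem_union_right _ ha0)
        simp only [dI, if_pos h1]
        exact eM_sq ω (hω _)
      · simp only [sw a0 ha0a ha0b]; exact (hgJ a0 ha0).2.2.2.2.1
      · simp only [sw a0 ha0a ha0b]; exact (hgJ a0 ha0).2.2.2.2.2.1
      · simp only [sw a0 ha0a ha0b]; exact (hgJ a0 ha0).2.2.2.2.2.2
      · intro i hi
        by_cases hia : i = a
        · subst hia
          have h1 : i ∈ insert b (I ∪ J) := Finset.mem_insert_of_mem (Finset.mem_union_left _ ha)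
          have h3 : i ∉ I.erase i ∪ J := by
            simp only [Finset.mem_union, Finset.mem_erase, ne_eq, not_true, false_and, false_or]
            exact haJ
          simp only [dI, if_pos h1, if_neg h3, Equiv.swap_apply_left, hBb, mul_one, one_mul, one_smul, w', if_true, hAa,
            and_self]
        by_cases hib : i = b
        · subst hib
          have h1 : i ∈ insert i (I ∪ J) := Finset.mem_insert_self _ _
          have h3 : i ∉ I.erase a ∪ J := by
            intro h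
            rcases Finset.mem_union.1 h with h | h
            · exact hbI (Finset.mem_of_mem_erase h)
            · exact hbJ h
          simp only [dI, if_pos h1, if_neg h3, Equiv.swap_apply_right, hBa, hK i hbI hbJ, mul_one, one_mul, one_smul, w',
            if_neg hia, if_true, and_self]
        simp only [sw i hia hib]
        have hiI : i ∉ I := fun h => hi (Finset.mem_erase.2 ⟨hia, h⟩)
        by_cases hiJ : i ∈ J
        · have h1 : i ∈ insert b (I ∪ J) := Finset.mem_insert_of_mem (Finset.mem_union_right _ hiJ)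
          have h3 : i ∈ I.erase a ∪ J := Finset.mem_union_right _ hiJ
          simp only [dI, if_pos h1, if_pos h3, w', if_neg hia, if_neg hib]
          exact ⟨(hgJ i hiJ).2.1, (hgJ i hiJ).2.2.1⟩
        · have h1 : i ∉ insert b (I ∪ J) := by
            simp only [Finset.mem_insert, Finset.mem_union, hib, hiI, hiJ, or_self, not_false_iff]
          have h3 : i ∉ I.erase a ∪ J := by
            intro h
            rcases Finset.mem_union.1 h with h | h
            · exact hiI (Finset.mem_of_mem_erase h)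
            · exact hiJ h
          simp only [dI, if_neg h1, if_neg h3, hK i hiI hiJ, (hgK i hiI hiJ).1, (hgK i hiI hiJ).2, mul_one, one_smul,
            and_self]
      · intro i hi
        obtain ⟨hia, hiI⟩ := Finset.mem_erase.1 hi
        have hib : i ≠ b := fun h => hbI (h ▸ hiI)
        have h1 : i ∈ insert b (I ∪ J) := Finset.mem_insert_of_mem (Finset.mem_union_left _ hiI)
        have h3 : i ∈ I.erase a ∪ J := Finset.mem_union_left _ hi
        simp only [sw i hia hib, dI, if_pos h1, if_pos h3, w', if_neg hia, if_neg hib]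
        exact ⟨(hgI i hiI).2.2.2.1, (hgI i hiI).2.2.2.2⟩
      · rw [Finset.prod_ite, Finset.prod_const, Finset.prod_const_one, mul_one]
        have h1 : (Finset.univ.filter fun i => i ∈ I.erase a ∪ J) = I.erase a ∪ J := by
          ext i
          simp only [Finset.mem_filter, Finset.mem_univ, true_and]
        have h3 : Disjoint (I.erase a) J := Finset.disjoint_of_subset_left (Finset.erase_subset _ _) hIJ
        rw [h1, Finset.card_union_of_disjoint h3, Finset.card_erase_of_mem ha]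
        obtain ⟨m, hm⟩ := hIodd
        obtain ⟨m', hm'⟩ := hJo
        exact Odd.neg_one_pow ⟨m + m', by omega⟩
    have hw' : ∀ i ∈ insert b (I ∪ J), w' i ≠ 0 := by
      intro i hi
      simp only [w']
      split_ifs with h1 h3
      · exact hva
      · exact (hgI a ha).2.1
      · refine hw0 i ?_
        rcases Finset.mem_insert.1 hi with h | h
        · exact absurd h h3
        · exact h
    have h1 := hasD_of hM hω hex hw' hres
    have h3 : (insert b (I ∪ J)).card = I.card + J.card + 1 := by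
      rw [Finset.card_insert_of_notMem hb, Finset.card_union_of_disjoint hIJ]
    refine ⟨2 * c * c, (insert b (I ∪ J)).card, hc', ?_, ?_, ?_, fun I' hI' => hasD_perm hM hI'.symm h1⟩
    · rw [h3]
      obtain ⟨m, hm⟩ := hIodd
      obtain ⟨m', hm'⟩ := hJo
      exact ⟨m + m' + 1, by omega⟩
    · rw [h3]
      obtain ⟨m, hm⟩ := hIodd
      obtain ⟨m', hm'⟩ := hJo
      omega
    · exact (Finset.card_le_univ _).trans (by rw [Fintype.card_fin])

/-- Reaching level `t`. -/
theorem hasD_univ [NeZero k] {p : ℕ} [CharP F p] (hp : Odd p) (hM : LevelHyp ω M) (hω : ∀ w, ω w w = 0)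
    (hn : ∀ w, (∀ x, ω w x = 0) → w = 0) (hroot : ∀ j v, In M (sl j (eM ω v v))) (ht : Odd t) (n : ℕ) :
    ∀ (c : F) (m : ℕ), c ≠ 0 → Odd m → 3 ≤ m → m + 2 * n = t →
      (∀ I : Finset (Fin t), I.card = m → HasD ω M c I) → ∃ c' : F, c' ≠ 0 ∧ HasD ω M c' Finset.univ := by
  have h2 : (2 : F) ≠ 0 := by
    intro h
    have h3 : ((2 : ℕ) : F) = 0 := by exact_mod_cast h
    rw [CharP.cast_eq_zero_iff F p] at h3
    obtain ⟨m, hm⟩ := hp
    have h4 := Nat.le_of_dvd (by norm_num) h3
    have h5 : p ≠ 1 := CharP.char_ne_one F p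
    omega
  induction n with
  | zero =>
    intro c m hc hm h3 hmt h
    exact ⟨c, hc, h _ (by rw [Finset.card_univ, Fintype.card_fin]; omega)⟩
  | succ n ih =>
    intro c m hc hm h3 hmt h
    refine ih (2 * c * c) (m + 2) (mul_ne_zero (mul_ne_zero h2 hc) hc) (hm.add_even even_two) (by omega) (by omega) ?_
    intro I hI
    exact hasD_step hp hM hω hn hroot hm h3 h hI

/-- The parity of the number of root slots. -/
theorem odd_card {p : ℕ} [CharP F p] (hp : Odd p) (hω : ∀ w, ω w w = 0) (hn : ∀ w, (∀ x, ω w x = 0) → w = 0)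
    (β : ((Fin t → Fin k) → F) →ₗ[F] ((Fin t → Fin k) → F) →ₗ[F] F) {c0 : F} (hc0 : c0 ≠ 0)
    (hβ : ∀ xs ys : Fin t → (Fin k → F), β (tp xs) (tp ys) = c0 * ∏ i, ω (xs i) (ys i))
    (hiso : ∀ g ∈ M, ∀ x y, β ((g : Module.End F ((Fin t → Fin k) → F)) x) ((g : Module.End F ((Fin t → Fin k) → F)) y)
      = β x y)
    {A : Fin t → Matrix (Fin k) (Fin k) F} {c : F} (hc : c ≠ 0) (hA : In M (c • PM A)) (hsq : ∃ i, A i * A i = 0)
    {I : Finset (Fin t)} (hA0 : ∀ i, A i ≠ 0)
    (hI : ∀ i ∈ I, ∀ x y, ω x (A i *ᵥ y) = - ω (A i *ᵥ x) y)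
    (hJ : ∀ i, i ∉ I → ∀ x y, ω x (A i *ᵥ y) = ω (A i *ᵥ x) y) : Odd I.card := by
  classical
  have h2 : (2 : F) ≠ 0 := by
    intro h
    have h3 : ((2 : ℕ) : F) = 0 := by exact_mod_cast h
    rw [CharP.cast_eq_zero_iff F p] at h3
    obtain ⟨m, hm⟩ := hp
    have h4 := Nat.le_of_dvd (by norm_num) h3
    have h5 : p ≠ 1 := CharP.char_ne_one F p
    omega
  obtain ⟨x, hx⟩ : ∃ x, x = c • PM A := ⟨_, rfl⟩
  have hxx : x * x = 0 := by
    obtain ⟨i, hi⟩ := hsq
    rw [hx, smul_mul_smul_comm, PM_mul, PM_zero i hi, smul_zero]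
  rw [← hx] at hA
  obtain ⟨g, hg, hgx⟩ := hA
  have hgi := inv_of_sq hgx hxx
  have e1 : ∀ a b, β (x a) b + β a (x b) = 0 := by
    intro a b
    have h3 := hiso g hg a b
    have h4 := hiso g⁻¹ (M.inv_mem hg) a b
    rw [hgx] at h3
    rw [hgi] at h4
    simp only [LinearMap.add_apply, LinearMap.sub_apply, Module.End.one_apply, map_add, map_sub] at h3 h4
    have h5 : (2 : F) * (β (x a) b + β a (x b)) = 0 := by linear_combination h3 - h4
    exact (mul_eq_zero.1 h5).resolve_left h2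
  -- vectors with `ω (A i x i) (y i) = 1`
  have hv : ∀ i, ∃ xy : (Fin k → F) × (Fin k → F), ω (A i *ᵥ xy.1) xy.2 = 1 := by
    intro i
    obtain ⟨v, hv⟩ : ∃ v, A i *ᵥ v ≠ 0 := by
      by_contra hcon
      push Not at hcon
      exact hA0 i (mat_ext fun x => by rw [hcon, Matrix.zero_mulVec])
    obtain ⟨f, hf⟩ := exists_one hn hv
    exact ⟨(v, f), hf⟩
  choose xy hxy using hv
  have e2 := e1 (tp fun i => (xy i).1) (tp fun i => (xy i).2)
  rw [hx, LinearMap.smul_apply, LinearMap.smul_apply, PM_tp, PM_tp, map_smul, map_smul, LinearMap.smul_apply, hβ, hβ] at e2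
  have e3 : ∏ i, ω (A i *ᵥ (xy i).1) (xy i).2 = 1 := Finset.prod_eq_one fun i _ => hxy i
  have e4 : ∏ i, ω (xy i).1 (A i *ᵥ (xy i).2) = (-1) ^ I.card := by
    have h3 : ∀ i, ω (xy i).1 (A i *ᵥ (xy i).2) = if i ∈ I then -1 else 1 := by
      intro i
      split_ifs with h
      · rw [hI i h, hxy]
      · rw [hJ i h, hxy]
    simp only [h3]
    rw [Finset.prod_ite, Finset.prod_const, Finset.prod_const_one, mul_one]
    congr 2
    ext i
    simp only [Finset.mem_filter, Finset.mem_univ, true_and]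
  rw [e3, e4, smul_eq_mul, smul_eq_mul, mul_one] at e2
  by_contra hodd
  rw [Nat.not_odd_iff_even] at hodd
  rw [hodd.neg_one_pow] at e2
  have h6 : (2 : F) * (c * c0) = 0 := by linear_combination e2
  exact mul_ne_zero h2 (mul_ne_zero hc hc0) h6

end Slots

end Cfsg.Agent.H874
end

-- part: H874/LevelE
section
/-!
# The dichotomy: all slots are good or `M` contains the transvections with pure centres
-/

set_option autoImplicit false
set_option linter.unusedSimpArgs false
set_option linter.unusedVariables false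
set_option linter.unusedSectionVars false

namespace Cfsg.Agent.H874

open Matrix Cfsg.Agent.H889

variable {F : Type*} [Field F] {k t : ℕ}

section Slots

variable {ω : (Fin k → F) →ₗ[F] (Fin k → F) →ₗ[F] F} {M : Subgroup (Module.End F ((Fin t → Fin k) → F))ˣ}

theorem eM_ne_zero (hn : ∀ w, (∀ x, ω w x = 0) → w = 0) {v : Fin k → F} (hv : v ≠ 0) : eM ω v v ≠ 0 := by
  intro h
  obtain ⟨f, hf⟩ := exists_one hn hv
  have h1 := eM_mulVec ω v v f
  rw [h, Matrix.zero_mulVec, hf, one_smul] at h1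
  exact hv h1.symm

theorem eL_ne_zero (hn : ∀ w, (∀ x, ω w x = 0) → w = 0) {u v : Fin k → F} (hlin : ∀ a : F, v ≠ a • u) (hu : u ≠ 0) :
    eM ω u v - eM ω v u ≠ 0 := by
  intro h
  have hv : v ≠ 0 := by
    rintro rfl
    exact hlin 0 (by rw [zero_smul])
  obtain ⟨f, hf⟩ := exists_one hn hv
  have h1 : (eM ω u v - eM ω v u) *ᵥ f = 0 := by rw [h, Matrix.zero_mulVec]
  rw [Matrix.sub_mulVec, eM_mulVec, eM_mulVec, hf, one_smul, sub_eq_zero] at h1
  have h2 : ω u f ≠ 0 := by
    intro h0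
    rw [h0, zero_smul] at h1
    exact hu h1
  refine hlin (ω u f)⁻¹ ?_
  rw [h1, smul_smul]
  rw [← h1, inv_mul_cancel₀ h2, one_smul]

/-- From a typed pure element to the last level. -/
theorem level_of_typ [NeZero k] {p : ℕ} [CharP F p] (hp : Odd p) (hM : LevelHyp ω M) (hω : ∀ w, ω w w = 0)
    (hn : ∀ w, (∀ x, ω w x = 0) → w = 0)
    (hex : ∀ u v : Fin k → F, u ≠ 0 → v ≠ 0 → ∃ x, ω u x ≠ 0 ∧ ω v x ≠ 0)
    (hroot : ∀ j v, In M (sl j (eM ω v v))) (ht : Odd t)
    (β : ((Fin t → Fin k) → F) →ₗ[F] ((Fin t → Fin k) → F) →ₗ[F] F) {c0 : F} (hc0 : c0 ≠ 0)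
    (hβ : ∀ xs ys : Fin t → (Fin k → F), β (tp xs) (tp ys) = c0 * ∏ i, ω (xs i) (ys i))
    (hiso : ∀ g ∈ M, ∀ x y, β ((g : Module.End F ((Fin t → Fin k) → F)) x) ((g : Module.End F ((Fin t → Fin k) → F)) y)
      = β x y)
    {A : Fin t → Matrix (Fin k) (Fin k) F} {c : F} (hc : c ≠ 0) (hA : In M (c • PM A)) (hT : ∀ i, Typ ω (A i))
    (j : Fin t) (hj : (∃ u v, ω u v = 0 ∧ (∀ a : F, v ≠ a • u) ∧ u ≠ 0 ∧ A j = eM ω u v - eM ω v u) ∨
      (A j ≠ 1 ∧ ∃ i, i ≠ j ∧ A i ≠ 1)) : ∃ c' : F, c' ≠ 0 ∧ HasD ω M c' Finset.univ := by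
  classical
  have skew := skew_of_alt hω
  let J : Finset (Fin t) := Finset.univ.filter fun i =>
    ∃ u v, ω u v = 0 ∧ (∀ a : F, v ≠ a • u) ∧ u ≠ 0 ∧ A i = eM ω u v - eM ω v u
  let I : Finset (Fin t) := Finset.univ.filter fun i => i ∉ J ∧ ∃ v, v ≠ 0 ∧ A i = eM ω v v
  have hJ : ∀ i ∈ J, ∃ u v, ω u v = 0 ∧ (∀ a : F, v ≠ a • u) ∧ u ≠ 0 ∧ A i = eM ω u v - eM ω v u :=
    fun i hi => (Finset.mem_filter.1 hi).2
  have hI : ∀ i ∈ I, ∃ v, v ≠ 0 ∧ A i = eM ω v v := fun i hi => (Finset.mem_filter.1 hi).2.2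
  have hIJ : Disjoint I J := Finset.disjoint_left.2 fun i hi => (Finset.mem_filter.1 hi).2.1
  have hK : ∀ i, i ∉ I → i ∉ J → A i = 1 := by
    intro i h1 h2
    rcases hT i with h | h | h
    · exact (h1 (Finset.mem_filter.2 ⟨Finset.mem_univ _, h2, h⟩)).elim
    · exact (h2 (Finset.mem_filter.2 ⟨Finset.mem_univ _, h⟩)).elim
    · exact h
  have hsqI : ∀ i ∈ I, A i * A i = 0 := by
    intro i hi
    obtain ⟨v, -, hv⟩ := hI i hi
    rw [hv]; exact eM_sq ω (hω v)
  have hsqJ : ∀ i ∈ J, A i * A i = 0 := by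
    intro i hi
    obtain ⟨u, v, huv, -, -, h⟩ := hJ i hi
    rw [h]; exact eL_sq ω hω huv (by rw [skew, huv, neg_zero])
  have hj1 : A j ≠ 1 := by
    rcases hj with ⟨u, v, huv, h1, h2, h⟩ | ⟨h, -⟩
    · rw [h]; exact sq_ne_one (eL_sq ω hω huv (by rw [skew, huv, neg_zero]))
    · exact h
  have hjIJ : j ∈ I ∨ j ∈ J := by
    by_contra hcon
    push Not at hcon
    exact hj1 (hK j hcon.1 hcon.2)
  have hodd : Odd I.card := by
    refine odd_card hp hω hn β hc0 hβ hiso hc hA ⟨j, hjIJ.elim (hsqI j) (hsqJ j)⟩ (I := I) ?_ ?_ ?_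
    · intro i
      by_cases h1 : i ∈ I
      · obtain ⟨v, hv0, hv⟩ := hI i h1
        rw [hv]; exact eM_ne_zero hn hv0
      by_cases h2 : i ∈ J
      · obtain ⟨u, v, huv, h1, h2, h⟩ := hJ i h2
        rw [h]; exact eL_ne_zero hn h1 h2
      · rw [hK i h1 h2]; exact one_ne_zero
    · intro i hi x y
      obtain ⟨v, -, hv⟩ := hI i hi
      rw [hv, eM_mulVec, eM_mulVec, map_smul, map_smul, LinearMap.smul_apply, smul_eq_mul, smul_eq_mul, skew x v]
      ring
    · intro i hi x y
      by_cases h2 : i ∈ J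
      · obtain ⟨u, v, huv, -, -, h⟩ := hJ i h2
        rw [h, Matrix.sub_mulVec, Matrix.sub_mulVec, eM_mulVec, eM_mulVec, eM_mulVec, eM_mulVec, map_sub, map_sub,
          LinearMap.sub_apply, map_smul, map_smul, map_smul, map_smul, LinearMap.smul_apply, LinearMap.smul_apply,
          smul_eq_mul, smul_eq_mul, smul_eq_mul, smul_eq_mul, skew x u, skew x v]
        ring
      · rw [hK i hi h2, Matrix.one_mulVec, Matrix.one_mulVec]
  have hfinish : ∀ (c' : F) (n : ℕ), c' ≠ 0 → Odd n → 3 ≤ n → n ≤ t →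
      (∀ I' : Finset (Fin t), I'.card = n → HasD ω M c' I') → ∃ c' : F, c' ≠ 0 ∧ HasD ω M c' Finset.univ := by
    intro c' n hc' hn' h3 hnt h
    obtain ⟨m, hm⟩ := hn'
    obtain ⟨m', hm'⟩ := ht
    exact hasD_univ hp hM hω hn hroot ⟨m', hm'⟩ (m' - m) c' n hc' ⟨m, hm⟩ h3 (by omega) h
  by_cases hJ0 : J.Nonempty
  · obtain ⟨c', n, h1, h2, h3, h4, h5⟩ := hasD_of_bivector hp hM hω hn hex hroot ht hc hA hIJ hI hJ hK hodd hJ0
    exact hfinish c' n h1 h2 h3 h4 h5
  · have hJe : J = ∅ := Finset.not_nonempty_iff_eq_empty.1 hJ0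
    have hjI : j ∈ I := hjIJ.resolve_right (by rw [hJe]; exact Finset.notMem_empty _)
    rcases hj with h | ⟨-, i, hij, hi1⟩
    · exact absurd ⟨j, Finset.mem_filter.2 ⟨Finset.mem_univ _, h⟩⟩ hJ0
    have hiI : i ∈ I := by
      by_contra hiI
      exact hi1 (hK i hiI (by rw [hJe]; exact Finset.notMem_empty _))
    have h2 : 2 ≤ I.card := by
      have h3 : ({i, j} : Finset (Fin t)) ⊆ I := by
        intro x hx
        rcases Finset.mem_insert.1 hx with rfl | hx
        · exact hiI
        · rw [Finset.mem_singleton.1 hx]; exact hjI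
      have h4 := Finset.card_le_card h3
      rwa [Finset.card_pair hij] at h4
    have h3 : 3 ≤ I.card := by
      obtain ⟨m, hm⟩ := hodd
      omega
    have hex' : ∀ i, ∃ v, i ∈ I → v ≠ 0 ∧ A i = eM ω v v := by
      intro i
      by_cases hi : i ∈ I
      · obtain ⟨v, hv⟩ := hI i hi
        exact ⟨v, fun _ => hv⟩
      · exact ⟨0, fun h => absurd h hi⟩
    choose v hv using hex'
    have hAd : A = dI ω I v := by
      funext i
      by_cases hi : i ∈ I
      · simp only [dI, if_pos hi]; exact (hv i hi).2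
      · simp only [dI, if_neg hi]; exact hK i hi (by rw [hJe]; exact Finset.notMem_empty _)
    rw [hAd] at hA
    have h5 := hasD_of hM hω hex (fun i hi => (hv i hi).1) hA
    refine hfinish c I.card hc hodd h3 ((Finset.card_le_univ _).trans (by rw [Fintype.card_fin])) ?_
    intro I' hI'
    exact hasD_perm hM hI'.symm h5

theorem coj_eq_smul (hω : ∀ w, ω w w = 0) (hn : ∀ w, (∀ x, ω w x = 0) → w = 0) [NeZero k] {j : Fin t}
    {z : Module.End F (({i : Fin t // i ≠ j} → Fin k) → F)} {c : F} (h : coj j z = c • 1) : z = c • 1 := by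
  refine LinearMap.ext fun y => ?_
  have h0 : (Pi.single (0 : Fin k) (1 : F) : Fin k → F) ≠ 0 := by
    intro h
    have := congrFun h 0
    rw [Pi.single_eq_same] at this
    exact one_ne_zero this
  refine (tslot ω hω hn j).i_injective h0 ?_
  rw [← coj_i, h, LinearMap.smul_apply, Module.End.one_apply, LinearMap.smul_apply, Module.End.one_apply, map_smul]

/-- All slots are good, or `M` contains the transvections with pure centres. -/
theorem good_or_level [NeZero k] {p : ℕ} [CharP F p] (hp : Odd p) (hM : LevelHyp ω M) (hω : ∀ w, ω w w = 0)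
    (hn : ∀ w, (∀ x, ω w x = 0) → w = 0)
    (hex : ∀ u v : Fin k → F, u ≠ 0 → v ≠ 0 → ∃ x, ω u x ≠ 0 ∧ ω v x ≠ 0)
    (hroot : ∀ j v (l : F), In M (l • sl j (eM ω v v))) (ht : Odd t)
    (β : ((Fin t → Fin k) → F) →ₗ[F] ((Fin t → Fin k) → F) →ₗ[F] F) {c0 : F} (hc0 : c0 ≠ 0)
    (hβ : ∀ xs ys : Fin t → (Fin k → F), β (tp xs) (tp ys) = c0 * ∏ i, ω (xs i) (ys i))
    (hiso : ∀ g ∈ M, ∀ x y, β ((g : Module.End F ((Fin t → Fin k) → F)) x) ((g : Module.End F ((Fin t → Fin k) → F)) y)
      = β x y) : (∀ j, (tslot ω hω hn j).Good M) ∨ ∃ c' : F, c' ≠ 0 ∧ HasD ω M c' Finset.univ := by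
  classical
  by_contra hcon
  push Not at hcon
  obtain ⟨⟨j, hj⟩, hno⟩ := hcon
  have hroot' : ∀ j v, In M (sl j (eM ω v v)) := fun j v => by
    have h := hroot j v 1
    rwa [one_smul] at h
  have hpm : ∀ X : Matrix (Fin k) (Fin k) F, PM (onS {j} fun _ => X) = sl j X := by
    intro X
    rw [sl]
    congr 1
    funext i
    by_cases hi : i = j
    · subst hi; simp [onS]
    · simp [onS, hi]
  apply hj
  refine ⟨?_, ?_, ?_⟩
  · intro w l
    obtain ⟨g, hg, hgx⟩ := hroot j w l
    have h1 : (tslot ω hω hn j).tv w l = g := Units.ext (by rw [Slot.coe_tv, Δ_eq_sl, hgx])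
    rw [h1]; exact hg
  · intro w hw X g hg hgx
    by_contra hX
    have hIn : In M (PM (onS {j} fun _ => eM ω w w) * coj j X) := by
      refine ⟨g, hg, ?_⟩
      rw [hpm, sl_mul_coj ω hω hn]
      refine LinearMap.ext fun x => ?_
      rw [hgx]
      rfl
    obtain ⟨A, c, hc, hA1, hA2, hA3, i, hi, hi1⟩ := purify' M hp hex hω hn hroot' _ {j} rfl (fun _ => eM ω w w) j
      (Finset.mem_singleton_self j) (eM_sq ω (hω w)) (fun i _ => Or.inl ⟨w, hw, rfl⟩) (coj j X)
      (by
        rintro ⟨c, h⟩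
        apply hX
        have h1 := coj_eq_smul hω hn h
        exact ⟨c, fun y => by rw [h1]; rfl⟩)
      (by
        intro i hi B
        rw [Finset.mem_singleton.1 hi]
        exact coj_comm_self ω hω hn j B X) hIn
    obtain ⟨c', hc', h⟩ := level_of_typ hp hM hω hn hex hroot' ht β hc0 hβ hiso hc hA3 hA2 j
      (Or.inr ⟨by rw [hA1 j (Finset.mem_singleton_self j)]; exact sq_ne_one (eM_sq ω (hω w)), i,
        fun h => hi (by rw [h]; exact Finset.mem_singleton_self j), hi1⟩)
    exact hno c' hc' h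
  · intro w b hw hwb hb Z g hg hgx
    by_contra hZ
    have hZ0 : Z ≠ 0 := by
      rintro rfl
      exact hZ fun y => rfl
    have hIn : In M (PM (onS {j} fun _ => eM ω w b - eM ω b w) * coj j Z) := by
      refine ⟨g, hg, ?_⟩
      have h3 : sl j (eM ω w b - eM ω b w) = sl j (eM ω w b) - sl j (eM ω b w) := by
        have h4 : eM ω w b - eM ω b w = eM ω w b + (-1 : F) • eM ω b w := by
          rw [neg_one_smul, sub_eq_add_neg]
        rw [h4, sl_add, sl_smul]
        refine LinearMap.ext fun x => ?_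
        simp only [LinearMap.add_apply, LinearMap.smul_apply, LinearMap.sub_apply, neg_smul, one_smul,
          LinearMap.neg_apply, sub_eq_add_neg]
      rw [hpm, h3, sub_mul, sl_mul_coj ω hω hn, sl_mul_coj ω hω hn]
      refine LinearMap.ext fun x => ?_
      rw [hgx]
      rfl
    have hty : Typ ω (eM ω w b - eM ω b w) := Or.inr (Or.inl ⟨w, b, hwb, hb, hw, rfl⟩)
    obtain ⟨A, c, hc, hA1, hA2, hA3⟩ := purify M hp hex hω hn hroot' _ {j} rfl (fun _ => eM ω w b - eM ω b w) j
      (Finset.mem_singleton_self j)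
      (eL_sq ω hω hwb (show ω b w = 0 by rw [skew_of_alt hω]; exact neg_eq_zero.2 hwb)) (fun i _ => hty) (coj j Z)
      (coj_ne_zero hZ0)
      (by
        intro i hi B
        rw [Finset.mem_singleton.1 hi]
        exact coj_comm_self ω hω hn j B Z) hIn
    obtain ⟨c', hc', h⟩ := level_of_typ hp hM hω hn hex hroot' ht β hc0 hβ hiso hc hA3 hA2 j
      (Or.inl ⟨w, b, hwb, hb, hw, hA1 j (Finset.mem_singleton_self j)⟩)
    exact hno c' hc' h

/-- The last level consists of transvections. -/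
theorem hasD_univ_apply (β : ((Fin t → Fin k) → F) →ₗ[F] ((Fin t → Fin k) → F) →ₗ[F] F) {c0 : F} (hc0 : c0 ≠ 0)
    (hβ : ∀ xs ys : Fin t → (Fin k → F), β (tp xs) (tp ys) = c0 * ∏ i, ω (xs i) (ys i)) {c : F}
    (h : HasD ω M c Finset.univ) {u : Fin t → (Fin k → F)} (hu : ∀ i, u i ≠ 0) :
    ∃ g ∈ M, ∀ x, (g : Module.End F ((Fin t → Fin k) → F)) x = x + (c * c0⁻¹ * β (tp u) x) • tp u := by
  obtain ⟨g, hg, hgx⟩ := h u hu
  refine ⟨g, hg, fun x => ?_⟩
  have h1 : PM (dI ω Finset.univ u) = c0⁻¹ • (β (tp u)).smulRight (tp u) := by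
    refine end_ext_tp fun xs => ?_
    rw [PM_tp, LinearMap.smul_apply, LinearMap.smulRight_apply, hβ]
    funext a
    simp only [tp_apply, dI, Finset.mem_univ, if_true, eM_mulVec, Pi.smul_apply, smul_eq_mul, Finset.prod_mul_distrib]
    field_simp
  rw [hgx, h1, LinearMap.add_apply, Module.End.one_apply, LinearMap.smul_apply, LinearMap.smul_apply,
    LinearMap.smulRight_apply, smul_smul, smul_smul]

end Slots

end Cfsg.Agent.H874
end

-- part: H874/Recog
section
/-!
# Recognition of the tensor-wreath group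

If `g` maps the root elements of the slots to multiples of root elements of slots, then `g` is in the tensor-wreath
group.
-/

set_option autoImplicit false
set_option linter.unusedSimpArgs false
set_option linter.unusedVariables false
set_option linter.unusedSectionVars false

namespace Cfsg.Agent.H874

open Matrix Cfsg.Agent.H889 Cfsg.Geo
open scoped MatrixGroups

variable {F : Type*} [Field F] {k t : ℕ}

theorem slot_zero (i : Fin t) : slot i (0 : Matrix (Fin k) (Fin k) F) = 0 := by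
  have h := slot_smul i (0 : F) (0 : Matrix (Fin k) (Fin k) F)
  rwa [zero_smul, zero_smul] at h

/-- The permutation of the tensor factors. -/
theorem exists_perm_mem (σ : Equiv.Perm (Fin t)) : ∃ g ∈ tensorWreathStandard k t F,
    ∀ xs : Fin t → (Fin k → F), g.val *ᵥ tp xs = tp fun i => xs (σ i) := by
  let P : Equiv.Perm (Fin t) → Matrix (Fin t → Fin k) (Fin t → Fin k) F := fun σ x y => if y = x ∘ σ then 1 else 0
  have hP : ∀ (σ : Equiv.Perm (Fin t)) (v : (Fin t → Fin k) → F) (x : Fin t → Fin k), (P σ *ᵥ v) x = v (x ∘ σ) := by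
    intro σ v x
    rw [Matrix.mulVec, dotProduct, Finset.sum_eq_single (x ∘ σ)]
    · show (if x ∘ σ = x ∘ σ then 1 else 0) * v (x ∘ σ) = _
      rw [if_pos rfl, one_mul]
    · intro b _ hb
      show (if b = x ∘ σ then 1 else 0) * v b = 0
      rw [if_neg hb, zero_mul]
    · intro h
      exact absurd (Finset.mem_univ _) h
  have hPP : ∀ σ τ : Equiv.Perm (Fin t), τ * σ = 1 → P σ * P τ = 1 := by
    intro σ τ h
    refine matrix_ext_tp fun xs => ?_
    rw [← Matrix.mulVec_mulVec, Matrix.one_mulVec]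
    funext x
    rw [hP, hP]
    congr 1
    funext i
    show x (σ (τ i)) = x i
    have h1 : σ * τ = 1 := by
      rw [← inv_eq_iff_mul_eq_one] at h
      rw [← h, inv_mul_cancel]
    rw [← Equiv.Perm.mul_apply, h1, Equiv.Perm.one_apply]
  let g : GL (Fin t → Fin k) F := ⟨P σ⁻¹, P σ, hPP _ _ (mul_inv_cancel _), hPP _ _ (inv_mul_cancel _)⟩
  refine ⟨g, Subgroup.subset_closure (Or.inr ⟨σ⁻¹, fun x y => rfl⟩), fun xs => ?_⟩
  funext x
  show (P σ⁻¹ *ᵥ tp xs) x = _
  rw [hP]
  have h1 := tp_comp_perm (fun i => xs (σ i)) σ⁻¹ x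
  have h2 : (fun i => xs (σ (σ⁻¹ i))) = xs := by
    funext i
    rw [← Equiv.Perm.mul_apply, mul_inv_cancel, Equiv.Perm.one_apply]
  rw [h2] at h1
  exact h1

theorem mem_of_isMonomialOn {g : GL (Fin t → Fin k) F} {gs : Fin t → GL (Fin k) F} {σ : Equiv.Perm (Fin t)}
    (h : IsMonomialOn g gs σ) : g ∈ tensorWreathStandard k t F := by
  obtain ⟨P, hP, hPt⟩ := exists_perm_mem (F := F) (k := k) σ
  have h1 : g = pmGL gs * P := by
    apply Units.ext
    refine matrix_ext_tp fun xs => ?_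
    rw [Units.val_mul, ← Matrix.mulVec_mulVec, hPt, coe_pmGL, pm_mulVec, h xs]
  rw [h1]
  exact Subgroup.mul_mem _ (pmGL_mem gs) hP

/-- Slot matrices are determined by their slot component. -/
theorem slot_inj [NeZero k] {i : Fin t} {A B : Matrix (Fin k) (Fin k) F} (h : slot i A = slot i B) : A = B := by
  refine mat_ext fun x => ?_
  have h1 : tp (Function.update (fun _ => (Pi.single 0 1 : Fin k → F)) i (A *ᵥ x))
      = tp (Function.update (fun _ => (Pi.single 0 1 : Fin k → F)) i (B *ᵥ x)) := by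
    have h2 := congrArg (fun X => X *ᵥ tp (Function.update (fun _ => (Pi.single 0 1 : Fin k → F)) i x)) h
    simp only [slot_mulVec_tp, Function.update_self, Function.update_idem] at h2
    exact h2
  funext p
  have h3 := congrFun h1 (Function.update (fun _ => 0) i p)
  have h4 : ∀ z : Fin k → F, tp (Function.update (fun _ => (Pi.single 0 1 : Fin k → F)) i z)
      (Function.update (fun _ => 0) i p) = z p := by
    intro z
    rw [tp_apply, ← Finset.mul_prod_erase Finset.univ _ (Finset.mem_univ i), Function.update_self, Function.update_self,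
      Finset.prod_eq_one, mul_one]
    intro j hj
    rw [Function.update_of_ne (Finset.ne_of_mem_erase hj), Function.update_of_ne (Finset.ne_of_mem_erase hj),
      Pi.single_eq_same]
  rwa [h4, h4] at h3

theorem tp_ne_zero {xs : Fin t → (Fin k → F)} (h : ∀ i, xs i ≠ 0) : tp xs ≠ 0 := by
  have h1 : ∀ i, ∃ a, xs i a ≠ 0 := fun i => Function.ne_iff.1 (h i)
  choose a ha using h1
  intro h2
  have h3 := congrFun h2 a
  rw [tp_apply, Pi.zero_apply] at h3
  exact Finset.prod_ne_zero_iff.2 (fun i _ => ha i) h3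

variable {ω : (Fin k → F) →ₗ[F] (Fin k → F) →ₗ[F] F}

theorem eM_smul (c : F) (a b : Fin k → F) : c • eM ω a b = eM ω (c • a) b := by
  refine mat_ext fun x => ?_
  rw [Matrix.smul_mulVec, eM_mulVec, eM_mulVec, smul_comm]

/-- Root elements generate all matrices. -/
theorem gen_eM (hn : ∀ w, (∀ x, ω w x = 0) → w = 0)
    (hex : ∀ u v : Fin k → F, u ≠ 0 → v ≠ 0 → ∃ x, ω u x ≠ 0 ∧ ω v x ≠ 0) (hω : ∀ w, ω w w = 0)
    (P : Matrix (Fin k) (Fin k) F → Prop) (hP : ∀ w, w ≠ 0 → P (eM ω w w)) (h0 : P 0)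
    (hadd : ∀ A B, P A → P B → P (A + B)) (hsmul : ∀ (c : F) A, P A → P (c • A)) (hmul : ∀ A B, P A → P B → P (A * B))
    (A : Matrix (Fin k) (Fin k) F) : P A := by
  classical
  have skew := skew_of_alt hω
  have h1 : ∀ a b : Fin k → F, a ≠ 0 → b ≠ 0 → P (eM ω a b) := by
    intro a b ha hb
    obtain ⟨x, hx1, hx2⟩ := hex a b ha hb
    have hx : x ≠ 0 := by
      rintro rfl
      exact hx1 (map_zero _)
    have h2 := hsmul ((ω a x * ω x b)⁻¹) _ (hmul _ _ (hmul _ _ (hP a ha) (hP x hx)) (hP b hb))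
    rw [eM_mul, smul_mul_assoc, eM_mul, smul_smul, smul_smul, mul_assoc, inv_mul_cancel₀, one_smul] at h2
    · exact h2
    · exact mul_ne_zero hx1 (by rw [skew]; exact neg_ne_zero.2 hx2)
  have h1' : ∀ a b : Fin k → F, P (eM ω a b) := by
    intro a b
    by_cases ha : a = 0
    · have : eM ω a b = 0 := mat_ext fun x => by rw [eM_mulVec, ha, smul_zero, Matrix.zero_mulVec]
      rw [this]; exact h0
    by_cases hb : b = 0
    · have : eM ω a b = 0 := mat_ext fun x => by
        rw [eM_mulVec, hb, map_zero, LinearMap.zero_apply, zero_smul, Matrix.zero_mulVec]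
      rw [this]; exact h0
    exact h1 a b ha hb
  -- coordinates are given by `ω`
  have hsurj : Function.Surjective (ω : (Fin k → F) →ₗ[F] Module.Dual F (Fin k → F)) := by
    refine (LinearMap.injective_iff_surjective_of_finrank_eq_finrank
      (Subspace.dual_finrank_eq (K := F) (V := Fin k → F)).symm).1 ?_
    rw [injective_iff_map_eq_zero]
    intro w hw
    exact hn w fun x => by rw [hw, LinearMap.zero_apply]
  choose b hb using fun q : Fin k => hsurj (LinearMap.proj q)
  have h2 : A = ∑ q, eM ω (A *ᵥ Pi.single q 1) (b q) := by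
    refine mat_ext fun x => ?_
    rw [Matrix.sum_mulVec]
    simp only [eM_mulVec]
    have h3 : ∀ q, ω (b q) x = x q := fun q => by rw [hb, LinearMap.proj_apply]
    simp only [h3]
    conv_lhs => rw [pi_eq_sum_univ' x]
    rw [← Matrix.toLin'_apply, map_sum]
    refine Finset.sum_congr rfl fun q _ => ?_
    rw [map_smul, Matrix.toLin'_apply]
  rw [h2]
  have h4 : ∀ s : Finset (Fin k), P (∑ q ∈ s, eM ω (A *ᵥ Pi.single q 1) (b q)) := by
    intro s
    induction s using Finset.induction_on with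
    | empty => rw [Finset.sum_empty]; exact h0
    | insert q s hq ih => rw [Finset.sum_insert hq]; exact hadd _ _ (h1' _ _) ih
  exact h4 _

/-- **Recognition**: a linear bijection mapping slot root elements to multiples of slot root elements is in the
tensor-wreath group. -/
theorem recog [NeZero k] (hω : ∀ w, ω w w = 0) (hn : ∀ w, (∀ x, ω w x = 0) → w = 0)
    (hex : ∀ u v : Fin k → F, u ≠ 0 → v ≠ 0 → ∃ x, ω u x ≠ 0 ∧ ω v x ≠ 0) (ht : 0 < t)
    (g : GL (Fin t → Fin k) F)
    (hg : ∀ (i : Fin t) (w : Fin k → F), w ≠ 0 → ∃ (j : Fin t) (u : Fin k → F) (c : F),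
      g.val * slot i (eM ω w w) * (g⁻¹).val = c • slot j (eM ω u u)) :
    ∃ (gs : Fin t → GL (Fin k) F) (σ : Equiv.Perm (Fin t)), IsMonomialOn g gs σ := by
  classical
  have skew := skew_of_alt hω
  have hgi : g.val * (g⁻¹).val = 1 := by rw [← Units.val_mul, mul_inv_cancel, Units.val_one]
  have hig : (g⁻¹).val * g.val = 1 := by rw [← Units.val_mul, inv_mul_cancel, Units.val_one]
  let C : Matrix (Fin t → Fin k) (Fin t → Fin k) F → Matrix (Fin t → Fin k) (Fin t → Fin k) F := fun X =>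
    g.val * X * (g⁻¹).val
  have hCmul : ∀ X Y, C (X * Y) = C X * C Y := by
    intro X Y
    show g.val * (X * Y) * (g⁻¹).val = g.val * X * (g⁻¹).val * (g.val * Y * (g⁻¹).val)
    calc g.val * (X * Y) * (g⁻¹).val = g.val * X * 1 * Y * (g⁻¹).val := by simp only [mul_assoc, one_mul]
      _ = _ := by rw [← hig]; simp only [mul_assoc]
  have hCinj : ∀ X Y, C X = C Y → X = Y := by
    intro X Y h
    have h1 : ∀ Z, (g⁻¹).val * C Z * g.val = Z := by
      intro Z
      show (g⁻¹).val * (g.val * Z * (g⁻¹).val) * g.val = Z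
      calc (g⁻¹).val * (g.val * Z * (g⁻¹).val) * g.val = ((g⁻¹).val * g.val) * Z * ((g⁻¹).val * g.val) := by
            simp only [mul_assoc]
        _ = Z := by rw [hig, one_mul, mul_one]
    rw [← h1 X, h, h1]
  have hCadd : ∀ X Y, C (X + Y) = C X + C Y := by
    intro X Y
    show g.val * (X + Y) * (g⁻¹).val = _
    rw [mul_add, add_mul]
  have hCsmul : ∀ (c : F) X, C (c • X) = c • C X := by
    intro c X
    show g.val * (c • X) * (g⁻¹).val = _
    rw [mul_smul_comm, smul_mul_assoc]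
  have hC0 : C 0 = 0 := by
    show g.val * 0 * (g⁻¹).val = 0
    rw [mul_zero, zero_mul]
  have hC1 : C 1 = 1 := by
    show g.val * 1 * (g⁻¹).val = 1
    rw [mul_one, hgi]
  have hCPM : ∀ X v, g.val *ᵥ (X *ᵥ v) = C X *ᵥ (g.val *ᵥ v) := by
    intro X v
    show _ = (g.val * X * (g⁻¹).val) *ᵥ (g.val *ᵥ v)
    rw [Matrix.mulVec_mulVec, Matrix.mulVec_mulVec, mul_assoc _ _ g.val, hig, mul_one]
  -- the images of the root elements
  have hCw : ∀ (i : Fin t) (w : Fin k → F), w ≠ 0 → ∃ (j : Fin t) (u : Fin k → F) (c : F), c ≠ 0 ∧ u ≠ 0 ∧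
      C (slot i (eM ω w w)) = c • slot j (eM ω u u) := by
    intro i w hw
    obtain ⟨j, u, c, h⟩ := hg i w hw
    have h0 : C (slot i (eM ω w w)) ≠ 0 := by
      intro h0
      rw [← hC0] at h0
      have h1 := hCinj _ _ h0
      rw [← slot_zero i] at h1
      exact eM_ne_zero hn hw (slot_inj h1)
    refine ⟨j, u, c, ?_, ?_, h⟩
    · rintro rfl
      rw [zero_smul] at h
      exact h0 h
    · rintro rfl
      have h1 : eM ω (0 : Fin k → F) 0 = 0 := mat_ext fun x => by rw [eM_mulVec, smul_zero, Matrix.zero_mulVec]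
      rw [h1, slot_zero, smul_zero] at h
      exact h0 h
  choose! J U Cc hc hu hCw using hCw
  have e0 : (Pi.single 0 1 : Fin k → F) ≠ 0 := by
    intro h
    have := congrFun h 0
    rw [Pi.single_eq_same] at this
    exact one_ne_zero this
  obtain ⟨w0, hw0⟩ : ∃ w0 : Fin k → F, w0 ≠ 0 := ⟨_, e0⟩
  -- the slot of the image does not depend on the vector
  have hJ1 : ∀ i w w', w ≠ 0 → w' ≠ 0 → ω w w' ≠ 0 → J i w = J i w' := by
    intro i w w' hw hw' h
    by_contra hne
    have h1 : C (slot i (eM ω w w)) * C (slot i (eM ω w' w')) = C (slot i (eM ω w' w')) * C (slot i (eM ω w w)) := by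
      rw [hCw i w hw, hCw i w' hw', smul_mul_smul_comm, smul_mul_smul_comm, slot_comm hne, mul_comm (Cc i w)]
    rw [← hCmul, ← hCmul] at h1
    have h2 := hCinj _ _ h1
    rw [slot_mul, slot_mul] at h2
    have h3 := slot_inj h2
    rw [eM_mul, eM_mul] at h3
    -- apply to `w`
    have h4 := congrArg (fun X => X *ᵥ w) h3
    simp only [Matrix.smul_mulVec, eM_mulVec, hω, zero_smul, smul_zero] at h4
    have h5 : ω w' w ≠ 0 := by rw [skew]; exact neg_ne_zero.2 h
    exact (smul_ne_zero h (smul_ne_zero h5 hw)) h4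
  have hJ : ∀ i w w', w ≠ 0 → w' ≠ 0 → J i w = J i w' := by
    intro i w w' hw hw'
    obtain ⟨x, hx1, hx2⟩ := hex w w' hw hw'
    have hx : x ≠ 0 := by
      rintro rfl
      exact hx1 (map_zero _)
    rw [hJ1 i w x hw hx hx1, hJ1 i w' x hw' hx hx2]
  let τ : Fin t → Fin t := fun i => J i w0
  -- the induced maps
  have hθ : ∀ i (B : Matrix (Fin k) (Fin k) F), ∃ B', C (slot i B) = slot (τ i) B' := by
    intro i B
    refine gen_eM hn hex hω (fun B => ∃ B', C (slot i B) = slot (τ i) B') ?_ ?_ ?_ ?_ ?_ B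
    · intro w hw
      refine ⟨Cc i w • eM ω (U i w) (U i w), ?_⟩
      rw [hCw i w hw, slot_smul, hJ i w w0 hw hw0]
    · exact ⟨0, by rw [slot_zero, hC0, slot_zero]⟩
    · rintro A B ⟨A', hA⟩ ⟨B', hB⟩
      exact ⟨A' + B', by rw [slot_add, hCadd, hA, hB, slot_add]⟩
    · rintro c A ⟨A', hA⟩
      exact ⟨c • A', by rw [slot_smul, hCsmul, hA, slot_smul]⟩
    · rintro A B ⟨A', hA⟩ ⟨B', hB⟩
      exact ⟨A' * B', by rw [← slot_mul, hCmul, hA, hB, slot_mul]⟩
  choose θ hθ using hθ
  have hθadd : ∀ i A B, θ i (A + B) = θ i A + θ i B := by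
    intro i A B
    apply slot_inj (i := τ i)
    rw [← hθ, slot_add, hCadd, hθ, hθ, slot_add]
  have hθsmul : ∀ i (c : F) A, θ i (c • A) = c • θ i A := by
    intro i c A
    apply slot_inj (i := τ i)
    rw [← hθ, slot_smul, hCsmul, hθ, slot_smul]
  have hθmul : ∀ i A B, θ i (A * B) = θ i A * θ i B := by
    intro i A B
    apply slot_inj (i := τ i)
    rw [← hθ, ← slot_mul, hCmul, hθ, hθ, slot_mul]
  have hθ1 : ∀ i, θ i 1 = 1 := by
    intro i
    apply slot_inj (i := τ i)
    rw [← hθ, slot_one, hC1, slot_one]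
  have hθeM : ∀ i w, w ≠ 0 → θ i (eM ω w w) = Cc i w • eM ω (U i w) (U i w) := by
    intro i w hw
    apply slot_inj (i := τ i)
    rw [← hθ, hCw i w hw, slot_smul, hJ i w w0 hw hw0]
  -- surjectivity
  have hθsurj : ∀ i, Function.Surjective (θ i) := by
    intro i
    let L : Matrix (Fin k) (Fin k) F →ₗ[F] Matrix (Fin k) (Fin k) F :=
      { toFun := θ i, map_add' := hθadd i, map_smul' := hθsmul i }
    have hinj : Function.Injective L := by
      intro A B h
      have h1 : θ i A = θ i B := h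
      have h2 : C (slot i A) = C (slot i B) := by rw [hθ, hθ, h1]
      exact slot_inj (hCinj _ _ h2)
    exact LinearMap.injective_iff_surjective.1 hinj
  have hτ : Function.Injective τ := by
    intro i j hij
    by_contra hne
    -- `eM w0 w0` in slot `τ i`
    obtain ⟨A, hA⟩ := hθsurj i (eM ω w0 w0)
    obtain ⟨B, hB⟩ := hθsurj j (eM ω w0 w0)
    have h1 : C (slot i A) = C (slot j B) := by rw [hθ, hθ, hA, hB, hij]
    have h2 := hCinj _ _ h1
    -- `A` commutes with everything
    have h3 : ∀ X, A * X = X * A := by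
      intro X
      apply slot_inj (i := i)
      rw [← slot_mul, ← slot_mul, h2, slot_comm (Ne.symm hne)]
    obtain ⟨x, hx1, -⟩ := hex w0 w0 hw0 hw0
    have hx : x ≠ 0 := by
      rintro rfl
      exact hx1 (map_zero _)
    obtain ⟨X, hX⟩ := hθsurj i (eM ω x x)
    have h4 := congrArg (θ i) (h3 X)
    rw [hθmul, hθmul, hA, hX, eM_mul, eM_mul] at h4
    have h5 := congrArg (fun X => X *ᵥ w0) h4
    simp only [Matrix.smul_mulVec, eM_mulVec, hω, zero_smul, smul_zero] at h5
    have h6 : ω x w0 ≠ 0 := by rw [skew]; exact neg_ne_zero.2 hx1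
    exact (smul_ne_zero hx1 (smul_ne_zero h6 hw0)) h5
  have hτb : Function.Bijective τ := Finite.injective_iff_bijective.1 hτ
  let T : Equiv.Perm (Fin t) := Equiv.ofBijective τ hτb
  let σ : Equiv.Perm (Fin t) := T.symm
  have hτσ : ∀ i, τ (σ i) = i := fun i => T.apply_symm_apply i
  have hστ : ∀ i, σ (τ i) = i := fun i => T.symm_apply_apply i
  -- conjugation of product matrices
  have hCpm : ∀ A : Fin t → Matrix (Fin k) (Fin k) F, C (pm A) = pm fun i => θ (σ i) (A (σ i)) := by
    intro A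
    have key : ∀ s : Finset (Fin t), C (pm fun i => if i ∈ s then A i else 1)
        = pm fun i => if σ i ∈ s then θ (σ i) (A (σ i)) else 1 := by
      intro s
      induction s using Finset.induction_on with
      | empty => simp only [Finset.notMem_empty, if_false, pm_one, hC1]
      | insert j s hj ih =>
        have h1 : (pm fun i => if i ∈ insert j s then A i else 1)
            = slot j (A j) * pm fun i => if i ∈ s then A i else 1 := by
          rw [slot, pm_mul]
          congr 1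
          funext i
          by_cases hi : i = j
          · subst hi
            rw [if_pos (Finset.mem_insert_self _ _), if_neg hj, Function.update_self, mul_one]
          · rw [Function.update_of_ne hi, one_mul]
            simp only [Finset.mem_insert, hi, false_or]
        rw [h1, hCmul, hθ, ih, slot, pm_mul]
        congr 1
        funext i
        by_cases hi : i = τ j
        · subst hi
          rw [Function.update_self, hστ, if_neg hj, if_pos (Finset.mem_insert_self _ _), mul_one]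
        · have h2 : σ i ≠ j := by
            intro h
            apply hi
            rw [← h, hτσ]
          rw [Function.update_of_ne hi, one_mul]
          simp only [Finset.mem_insert, h2, false_or]
    have h2 := key Finset.univ
    simpa using h2
  -- an idempotent fixing `w0`
  obtain ⟨z, hz⟩ := exists_one hn hw0
  have hzw : ω (-z) w0 = 1 := by rw [map_neg, LinearMap.neg_apply, skew, hz, neg_neg]
  -- `eM x (-z)` maps `w0` to `x`
  have hxz : ∀ x : Fin k → F, eM ω x (-z) *ᵥ w0 = x := fun x => by rw [eM_mulVec, hzw, one_smul]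
  -- the image of the idempotent has rank one
  have hR : ∀ i, ∀ y, ∃ m : F, θ i (eM ω w0 (-z)) *ᵥ y = m • U i w0 := by
    intro i y
    have h1 : eM ω w0 (-z) = eM ω w0 w0 * eM ω z (-z) := by rw [eM_mul, hz, one_smul]
    rw [h1, hθmul, hθeM i w0 hw0, ← Matrix.mulVec_mulVec, Matrix.smul_mulVec, eM_mulVec, smul_smul]
    exact ⟨_, rfl⟩
  -- the image of the pure vector
  let x0 : (Fin t → Fin k) → F := tp fun _ => w0
  let R : Fin t → Matrix (Fin k) (Fin k) F := fun i => θ (σ i) (eM ω w0 (-z))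
  have hx0 : g.val *ᵥ x0 = pm R *ᵥ (g.val *ᵥ x0) := by
    have h1 : pm (fun _ : Fin t => eM ω w0 (-z)) *ᵥ x0 = x0 := by
      show pm (fun _ : Fin t => eM ω w0 (-z)) *ᵥ (tp fun _ => w0) = tp fun _ => w0
      rw [pm_mulVec]
      congr 1
      funext i
      exact hxz w0
    conv_lhs => rw [← h1]
    rw [hCPM, hCpm]
  have hx0' : ∃ m : F, g.val *ᵥ x0 = m • tp fun i => U (σ i) w0 := by
    rw [hx0]
    generalize g.val *ᵥ x0 = v
    have h1 : v = ∑ b, v b • (Pi.single b 1 : (Fin t → Fin k) → F) := pi_eq_sum_univ' v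
    rw [h1]
    have h2 : ∀ s : Finset (Fin t → Fin k), ∃ m : F,
        pm R *ᵥ (∑ b ∈ s, v b • (Pi.single b 1 : (Fin t → Fin k) → F)) = m • tp fun i => U (σ i) w0 := by
      intro s
      induction s using Finset.induction_on with
      | empty => exact ⟨0, by rw [Finset.sum_empty, Matrix.mulVec_zero, zero_smul]⟩
      | insert b s hb ih =>
        obtain ⟨m, hm⟩ := ih
        have h3 : ∃ m' : F, pm R *ᵥ (Pi.single b 1 : (Fin t → Fin k) → F) = m' • tp fun i => U (σ i) w0 := by
          rw [single_eq_tp, pm_mulVec]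
          choose m' hm' using fun i => hR (σ i) (Pi.single (b i) 1)
          refine ⟨∏ i, m' i, ?_⟩
          funext a
          simp only [tp_apply, R, hm', Pi.smul_apply, smul_eq_mul, Finset.prod_mul_distrib]
        obtain ⟨m', hm'⟩ := h3
        refine ⟨v b * m' + m, ?_⟩
        rw [Finset.sum_insert hb, Matrix.mulVec_add, hm, Matrix.mulVec_smul, hm', smul_smul, add_smul]
    exact h2 Finset.univ
  obtain ⟨m, hm⟩ := hx0'
  have hgne : ∀ v, v ≠ 0 → g.val *ᵥ v ≠ 0 := by
    intro v hv h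
    apply hv
    have h1 : (g⁻¹).val *ᵥ (g.val *ᵥ v) = v := by rw [Matrix.mulVec_mulVec, hig, Matrix.one_mulVec]
    rw [← h1, h, Matrix.mulVec_zero]
  have hm0 : m ≠ 0 := by
    rintro rfl
    rw [zero_smul] at hm
    exact hgne x0 (tp_ne_zero fun _ => hw0) hm
  -- the linear maps
  let i0 : Fin t := ⟨0, ht⟩
  let L : Fin t → Module.End F (Fin k → F) := fun i =>
    (if i = i0 then m else 1) • LinearMap.mk ⟨fun x => θ (σ i) (eM ω x (-z)) *ᵥ U (σ i) w0, fun x y => by
      have h1 : eM ω (x + y) (-z) = eM ω x (-z) + eM ω y (-z) := mat_ext fun v => by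
        rw [Matrix.add_mulVec, eM_mulVec, eM_mulVec, eM_mulVec, smul_add]
      rw [h1, hθadd, Matrix.add_mulVec]⟩ (fun c x => by
      have h1 : eM ω (c • x) (-z) = c • eM ω x (-z) := (eM_smul c x (-z)).symm
      show θ (σ i) (eM ω (c • x) (-z)) *ᵥ U (σ i) w0 = c • (θ (σ i) (eM ω x (-z)) *ᵥ U (σ i) w0)
      rw [h1, hθsmul, Matrix.smul_mulVec])
  have hL : ∀ xs : Fin t → (Fin k → F), g.val *ᵥ tp xs = tp fun i => L i (xs (σ i)) := by
    intro xs
    have h1 : tp xs = pm (fun i => eM ω (xs i) (-z)) *ᵥ x0 := by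
      show tp xs = pm (fun i => eM ω (xs i) (-z)) *ᵥ tp fun _ => w0
      rw [pm_mulVec]
      congr 1
      funext i
      exact (hxz _).symm
    rw [h1, hCPM, hCpm, hm, Matrix.mulVec_smul, pm_mulVec]
    funext a
    have h2 : ∀ i, L i (xs (σ i)) = (if i = i0 then m else 1) • (θ (σ i) (eM ω (xs (σ i)) (-z)) *ᵥ U (σ i) w0) :=
      fun i => rfl
    simp only [tp_apply, h2, Pi.smul_apply, smul_eq_mul, Finset.prod_mul_distrib]
    congr 1
    rw [Finset.prod_ite_eq' Finset.univ i0, if_pos (Finset.mem_univ _)]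
  have hLinj : ∀ i, Function.Injective (L i) := by
    intro i
    rw [injective_iff_map_eq_zero]
    intro x hx
    by_contra hx0
    have h1 : g.val *ᵥ tp (Function.update (fun _ => w0) (σ i) x) ≠ 0 := by
      refine hgne _ (tp_ne_zero fun j => ?_)
      by_cases hj : j = σ i
      · subst hj; rw [Function.update_self]; exact hx0
      · rw [Function.update_of_ne hj]; exact hw0
    apply h1
    rw [hL]
    funext a
    rw [tp_apply, Finset.prod_eq_zero (Finset.mem_univ i)]
    · rfl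
    · rw [Function.update_self, hx]; rfl
  let Le : ∀ i, (Fin k → F) ≃ₗ[F] (Fin k → F) := fun i => LinearEquiv.ofInjectiveEndo (L i) (hLinj i)
  refine ⟨fun i => ⟨LinearMap.toMatrix' (L i), LinearMap.toMatrix' (Le i).symm.toLinearMap, ?_, ?_⟩, σ, fun xs => ?_⟩
  · rw [← LinearMap.toMatrix'_comp]
    have h1 : L i ∘ₗ (Le i).symm.toLinearMap = LinearMap.id := by
      refine LinearMap.ext fun x => ?_
      exact (Le i).apply_symm_apply x
    rw [h1, LinearMap.toMatrix'_id]
  · rw [← LinearMap.toMatrix'_comp]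
    have h1 : (Le i).symm.toLinearMap ∘ₗ L i = LinearMap.id := by
      refine LinearMap.ext fun x => ?_
      exact (Le i).symm_apply_apply x
    rw [h1, LinearMap.toMatrix'_id]
  · rw [hL]
    congr 1
    funext i
    show L i (xs (σ i)) = LinearMap.toMatrix' (L i) *ᵥ xs (σ i)
    rw [LinearMap.toMatrix'_mulVec]

/-- **Recognition**, membership form. -/
theorem recog_mem [NeZero k] (hω : ∀ w, ω w w = 0) (hn : ∀ w, (∀ x, ω w x = 0) → w = 0)
    (hex : ∀ u v : Fin k → F, u ≠ 0 → v ≠ 0 → ∃ x, ω u x ≠ 0 ∧ ω v x ≠ 0) (ht : 0 < t)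
    (g : GL (Fin t → Fin k) F)
    (hg : ∀ (i : Fin t) (w : Fin k → F), w ≠ 0 → ∃ (j : Fin t) (u : Fin k → F) (c : F),
      g.val * slot i (eM ω w w) * (g⁻¹).val = c • slot j (eM ω u u)) : g ∈ tensorWreathStandard k t F := by
  obtain ⟨gs, σ, h⟩ := recog hω hn hex ht g hg
  exact mem_of_isMonomialOn h

end Cfsg.Agent.H874
end
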